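import Cfsg.Agent.Lib.ExtFieldMax.SympQuadratic

/-!
Symmetric root elements on a totally isotropic plane, and two ways of producing root vectors.
-/

set_option autoImplicit false
set_option linter.unusedSectionVars false

namespace Cfsg.Agent.Lib.SympFourOdd

open Matrix
open Cfsg.Agent.Lib Cfsg.Agent.Lib.Forms Cfsg.Agent.Lib.SympMax
open Cfsg.Agent.Lib.ExtFieldMax.SympQuad (gl_ext gl_mulVec T_add T_comm)

variable {F : Type*} [Field F] [Finite F] {m : ℕ}

theorem exists_two_squares (h2 : (2 : F) ≠ 0) (z : F) : ∃ p s : F, p * p + s * s = z := by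
  have : Fintype F := Fintype.ofFinite F
  obtain ⟨p, s, hps⟩ := FiniteField.exists_root_sum_quadratic
    (f := Polynomial.X ^ 2 - Polynomial.C z) (g := Polynomial.X ^ 2)
    (Polynomial.degree_X_pow_sub_C (by norm_num) _) (Polynomial.degree_X_pow 2)
    (FiniteField.odd_card_of_char_ne_two fun h => by
      have := ringChar.of_eq h
      exact h2 CharTwo.two_eq_zero)
  refine ⟨p, s, ?_⟩
  simp at hps
  linear_combination hps

local notation "Vs" => (Fin m ⊕ Fin m → F)
local notation "f" => Cfsg.sympForm m F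
local notation "GLs" => GL (Fin m ⊕ Fin m) F
local notation "Ms" => Matrix (Fin m ⊕ Fin m) (Fin m ⊕ Fin m) F

/-- The root element of a symmetric form on the plane of `a`, `b`. -/
noncomputable def S (a b : Fin m ⊕ Fin m → F) (A B C : F) : GL (Fin m ⊕ Fin m) F :=
  T (a + b) C * T a (A - C) * T b (B - C)

theorem S_mem (a b : Vs) (A B C : F) : S a b A B C ∈ Cfsg.spGL m F :=
  mul_mem (mul_mem (T_mem _ _) (T_mem _ _)) (T_mem _ _)

theorem S_mulVec {a b : Vs} (hab : f a b = 0) (A B C : F) (x : Vs) :
    (S a b A B C : Ms) *ᵥ x = x + (A * f x a + C * f x b) • a + (C * f x a + B * f x b) • b := by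
  have hba : f b a = 0 := by rw [sympForm_comm, hab, neg_zero]
  simp only [S, gl_mulVec, T_mulVec, form_add_left, form_add_right, form_smul_left, sympForm_self, hab, hba]
  match_scalars <;> ring

theorem conj_S {g : GLs} (hg : g ∈ Cfsg.spGL m F) (a b : Vs) (A B C : F) :
    g * S a b A B C * g⁻¹ = S ((g : Ms) *ᵥ a) ((g : Ms) *ᵥ b) A B C := by
  simp only [S, ← mulVec_add, ← conj_T hg]
  group

theorem T_zero' (v : Vs) : T v (0 : F) = 1 := gl_ext fun x => by simp

theorem S_inv {a b : Vs} (hab : f a b = 0) (A B C : F) :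
    (S a b A B C)⁻¹ = S a b (-A) (-B) (-C) := by
  have hba : f b a = 0 := by rw [sympForm_comm, hab, neg_zero]
  refine inv_eq_of_mul_eq_one_right (gl_ext fun x => ?_)
  rw [gl_mulVec, S_mulVec hab, S_mulVec hab, Units.val_one, one_mulVec]
  simp only [form_add_left, form_smul_left, sympForm_self, hab, hba]
  module

variable {H : Subgroup (GL (Fin m ⊕ Fin m) F)}

/-- Two planes through a common point, meeting the hyperbolic pair `a, b`: the commutator of the two
symplectic mixed root elements is a transvection. -/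
theorem T_of_two_mixed {e a b : Vs} (hea : f e a = 0) (heb : f e b = 0) (hP : S e a 0 0 1 ∈ H)
    (hQ : S e b 0 0 1 ∈ H) : T e (-(2 * f a b)) ∈ H := by
  have hae : f a e = 0 := by rw [sympForm_comm, hea, neg_zero]
  have hbe : f b e = 0 := by rw [sympForm_comm, heb, neg_zero]
  have h1 := H.mul_mem (H.mul_mem (H.mul_mem hP hQ) (H.inv_mem hP)) (H.inv_mem hQ)
  rw [conj_S (S_mem e a 0 0 1)] at h1
  simp only [S_mulVec hea, sympForm_self, hea, hbe, zero_mul, mul_zero, add_zero, zero_add, zero_smul,
    one_mul] at h1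
  have hpb : f e (b + f b a • e) = 0 := by rw [form_add_right, form_smul_right, sympForm_self, heb]; ring
  have key : S e (b + f b a • e) 0 0 1 = T e (-(2 * f a b)) * S e b 0 0 1 := by
    refine gl_ext fun x => ?_
    rw [gl_mulVec, S_mulVec hpb, S_mulVec heb, T_mulVec]
    simp only [form_add_left, form_add_right, form_smul_left, form_smul_right, sympForm_self, hbe,
      sympForm_comm b a]
    match_scalars <;> ring
  rwa [key, mul_inv_cancel_right] at h1

/-- Two transvection subgroups of a hyperbolic pair, each paired with one at an orthogonal vector, give a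
root vector as soon as some non-zero scalar has square different from one. -/
theorem root_of_paired (hH : H ≤ Cfsg.spGL m F) {e a b : Vs} (hea : f e a = 0) (heb : f e b = 0)
    (hab : f a b ≠ 0) {l : F} (hl : l ≠ 0) (hl1 : l * l ≠ 1) (k : F)
    (hA : ∀ x, T a x * T e (k * x) ∈ H) (hB : ∀ x, T b x * T e (k * x) ∈ H) : b ∈ root H := by
  set μ := f a b with hμ
  have hae : f a e = 0 := by rw [sympForm_comm, hea, neg_zero]
  have hbe : f b e = 0 := by rw [sympForm_comm, heb, neg_zero]
  have hba : f b a = -μ := sympForm_comm b a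
  have eA : ∀ x (z : Vs), f z e = 0 → ((T a x * T e (k * x) : GLs) : Ms) *ᵥ z = z + (x * f z a) • a := by
    intro x z hz
    rw [gl_mulVec, T_mulVec, T_mulVec, hz, mul_zero, zero_smul, add_zero]
  have eB : ∀ x (z : Vs), f z e = 0 → ((T b x * T e (k * x) : GLs) : Ms) *ᵥ z = z + (x * f z b) • b := by
    intro x z hz
    rw [gl_mulVec, T_mulVec, T_mulVec, hz, mul_zero, zero_smul, add_zero]
  obtain ⟨W, hW, hWa, hWe⟩ : ∃ W ∈ H, (W : Ms) *ᵥ a = l • b ∧ (W : Ms) *ᵥ e = e := by
    refine ⟨_, H.mul_mem (H.mul_mem (hA (1 / (l * μ))) (hB (l / μ))) (hA (1 / (l * μ))), ?_, ?_⟩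
    · rw [gl_mulVec, gl_mulVec, eA _ _ hae, sympForm_self, mul_zero, zero_smul, add_zero, eB _ _ hae, ← hμ,
        eA _ _ (by rw [form_add_left, form_smul_left, hae, hbe]; ring), form_add_left, form_smul_left,
        sympForm_self, hba]
      match_scalars <;> field_simp
      ring
    · rw [gl_mulVec, gl_mulVec, eA _ _ (sympForm_self e), hea, mul_zero, zero_smul, add_zero,
        eB _ _ (sympForm_self e), heb, mul_zero, zero_smul, add_zero, eA _ _ (sympForm_self e), hea, mul_zero,
        zero_smul, add_zero]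
  intro c
  have hl2 : l * l - 1 ≠ 0 := sub_ne_zero.mpr hl1
  obtain ⟨x, hx⟩ : ∃ x, (l * l - 1) * x = c := ⟨c / (l * l - 1), mul_div_cancel₀ _ hl2⟩
  have h1 := H.mul_mem (H.mul_mem (H.mul_mem hW (hA x)) (H.inv_mem hW)) (hB (-x))
  rw [← conj_mul, conj_T (hH hW), conj_T (hH hW), hWa, hWe, T_smul] at h1
  have e1 : T b (l * l * x) * T e (k * x) * (T b (-x) * T e (k * -x)) = T b c := by
    rw [(T_comm heb (k * -x) (-x)).symm.eq, mul_assoc, ← mul_assoc (T e (k * x)), T_add,
      show k * x + k * -x = 0 by ring, T_zero', one_mul, T_add, ← hx]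
    congr 1
    ring
  rwa [e1] at h1

/-- One transvection with a given scalar at every vector gives every transvection. -/
theorem root_of_const (h2 : (2 : F) ≠ 0) {c : F} (hc : c ≠ 0)
    (h : ∀ w : Vs, w ≠ 0 → T w c ∈ H) (w : Vs) : w ∈ root H := by
  have : Fintype F := Fintype.ofFinite F
  intro z
  have hT : ∀ s : F, T w (s * s * c) ∈ H := by
    intro s
    rcases eq_or_ne (s • w) 0 with h0 | h0
    · rw [← T_smul, h0]
      have : T (0 : Vs) c = 1 := gl_ext fun x => by simp
      rw [this]; exact H.one_mem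
    · rw [← T_smul]; exact h _ h0
  obtain ⟨p, s, hps⟩ := exists_two_squares h2 (z / c)
  have h1 := H.mul_mem (hT p) (hT s)
  rwa [T_add, show p * p * c + s * s * c = z by rw [← add_mul, hps, div_mul_cancel₀ _ hc]] at h1

end Cfsg.Agent.Lib.SympFourOdd
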