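import Cfsg.Agent.Lib.SympFourOdd.Common
import Cfsg.Agent.Lib.SympMax.Pair

/-!
The stabiliser of a pair of complementary Lagrangian planes is maximal in the four-dimensional symplectic
group, for odd fields with at least five elements.
-/

set_option autoImplicit false
set_option linter.unusedSectionVars false

namespace Cfsg.Agent.Lib.SympFourOdd.LagPair

open Matrix
open Cfsg.Agent.Lib Cfsg.Agent.Lib.Forms Cfsg.Agent.Lib.SympMax
open Cfsg.Agent.Lib.ExtFieldMax.SympQuad (gl_ext gl_mulVec T_add T_comm)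

variable {F : Type*} [Field F] [Finite F]

local notation "Vs" => (Fin 2 ⊕ Fin 2 → F)
local notation "f" => Cfsg.sympForm 2 F
local notation "GLs" => GL (Fin 2 ⊕ Fin 2) F
local notation "Ms" => Matrix (Fin 2 ⊕ Fin 2) (Fin 2 ⊕ Fin 2) F

/-- A basis adapted to the pair. -/
structure Adapted (X Y : Submodule F (Fin 2 ⊕ Fin 2 → F)) (a₁ a₂ b₁ b₂ : Fin 2 ⊕ Fin 2 → F) : Prop where
  a1X : a₁ ∈ X
  a2X : a₂ ∈ X
  b1Y : b₁ ∈ Y
  b2Y : b₂ ∈ Y
  o11 : Cfsg.sympForm 2 F a₁ b₁ = 1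
  o22 : Cfsg.sympForm 2 F a₂ b₂ = 1
  o12 : Cfsg.sympForm 2 F a₁ b₂ = 0
  o21 : Cfsg.sympForm 2 F a₂ b₁ = 0

theorem Adapted.swap {X Y : Submodule F Vs} {a₁ a₂ b₁ b₂ : Vs} (h : Adapted X Y a₁ a₂ b₁ b₂) :
    Adapted X Y a₂ a₁ b₂ b₁ := ⟨h.a2X, h.a1X, h.b2Y, h.b1Y, h.o22, h.o11, h.o21, h.o12⟩

section

variable {X Y : Submodule F (Fin 2 ⊕ Fin 2 → F)}
  (hX : ∀ u ∈ X, ∀ v ∈ X, Cfsg.sympForm 2 F u v = 0)
  (hY : ∀ u ∈ Y, ∀ v ∈ Y, Cfsg.sympForm 2 F u v = 0) (hsup : X ⊔ Y = ⊤) (hinf : X ⊓ Y = ⊥)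
  (hdX : Module.finrank F X = 2) (hdY : Module.finrank F Y = 2)

include hX hY hsup hinf hdX hdY in
/-- A pair with inner product one extends to an adapted basis. -/
theorem exists_adapted {a b : Vs} (ha : a ∈ X) (hb : b ∈ Y) (hab : f a b = 1) :
    ∃ a' b', Adapted X Y a a' b b' := by
  let φ : X →ₗ[F] F := ((sympBilin 2 F).flip b).comp X.subtype
  have h1 := φ.finrank_range_add_finrank_ker
  have h3 : Module.finrank F φ.range ≤ 1 := by simpa using Submodule.finrank_le φ.range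
  have hk : φ.ker ≠ ⊥ := fun e => by rw [e, finrank_bot] at h1; omega
  obtain ⟨z, hz, hz0⟩ := Submodule.exists_mem_ne_zero_of_ne_bot hk
  have hzb : f (z : Vs) b = 0 := by simpa [φ] using hz
  obtain ⟨p, hp, hpS, hpz⟩ := sep_dual hY hX (by rwa [sup_comm]) (by rwa [inf_comm])
    (S := Submodule.span F {a}) ((Submodule.span_singleton_le_iff_mem _ _).mpr ha) z.2 (by
      intro h
      obtain ⟨c, hc⟩ := Submodule.mem_span_singleton.mp h
      rw [← hc, form_smul_left, hab, mul_one] at hzb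
      exact hz0 (Subtype.ext (by rw [← hc, hzb, zero_smul]; rfl)))
  refine ⟨z, -p, ha, z.2, hb, Y.neg_mem hp, hab, ?_, ?_, hzb⟩
  · rw [← neg_one_smul F p, form_smul_right, sympForm_comm, hpz]; ring
  · rw [← neg_one_smul F p, form_smul_right, sympForm_comm, hpS a (Submodule.mem_span_singleton_self a)]; ring

include hX hY hsup hinf hdX hdY in
/-- An orthogonal pair extends to an adapted basis. -/
theorem exists_adapted' {a b : Vs} (ha : a ∈ X) (hb : b ∈ Y) (ha0 : a ≠ 0) (hb0 : b ≠ 0) (hab : f a b = 0) :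
    ∃ a' b', Adapted X Y a a' b' b := by
  obtain ⟨p, hp, -, hpb⟩ := sep_dual hX hY hsup hinf (S := (⊥ : Submodule F Vs)) bot_le hb
    (fun h => hb0 ((Submodule.mem_bot F).mp h))
  obtain ⟨q, hq, hqS, hqa⟩ := sep_dual hY hX (by rwa [sup_comm]) (by rwa [inf_comm])
    (S := Submodule.span F {p}) ((Submodule.span_singleton_le_iff_mem _ _).mpr hp) ha (by
      intro h
      obtain ⟨c, hc⟩ := Submodule.mem_span_singleton.mp h
      rw [← hc, form_smul_left, hpb, mul_one] at hab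
      exact ha0 (by rw [← hc, hab, zero_smul]))
  refine ⟨p, -q, ha, hp, Y.neg_mem hq, hb, ?_, hpb, hab, ?_⟩
  · rw [← neg_one_smul F q, form_smul_right, sympForm_comm, hqa]; ring
  · rw [← neg_one_smul F q, form_smul_right, sympForm_comm, hqS p (Submodule.mem_span_singleton_self p)]; ring

include hX hY hdX hdY in
/-- Coordinates in an adapted basis. -/
theorem expand {a₁ a₂ b₁ b₂ : Vs} (hA : Adapted X Y a₁ a₂ b₁ b₂) :
    (∀ x ∈ X, x = f x b₁ • a₁ + f x b₂ • a₂) ∧ (∀ y ∈ Y, y = f a₁ y • b₁ + f a₂ y • b₂) := by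
  obtain ⟨ha1, ha2, hb1, hb2, o11, o22, o12, o21⟩ := hA
  have key : ∀ (Z : Submodule F Vs) (p q : Vs) (L M : Vs →ₗ[F] F), Module.finrank F Z = 2 → p ∈ Z → q ∈ Z →
      L p = 1 → L q = 0 → M p = 0 → M q = 1 → ∀ z ∈ Z, z = L z • p + M z • q := by
    intro Z p q L M hZ hp hq h1 h3 h4 h5 z hz
    have hli : LinearIndependent F ![p, q] := by
      rw [LinearIndependent.pair_iff]
      intro s t hst
      have e1 := congrArg L hst
      have e3 := congrArg M hst
      simp [h1, h3, h4, h5] at e1 e3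
      exact ⟨e1, e3⟩
    have hle : Submodule.span F (Set.range ![p, q]) ≤ Z := by
      rw [Submodule.span_le]; rintro _ ⟨i, rfl⟩; fin_cases i <;> assumption
    have he := Submodule.eq_of_le_of_finrank_eq hle (by rw [finrank_span_eq_card hli, hZ, Fintype.card_fin])
    rw [← he] at hz
    rw [Matrix.range_cons, Matrix.range_cons, Matrix.range_empty, Set.union_empty, Set.singleton_union,
      Submodule.mem_span_pair] at hz
    obtain ⟨s, t, rfl⟩ := hz
    simp [h1, h3, h4, h5]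
  refine ⟨fun x hx => ?_, fun y hy => ?_⟩
  · have h := key X a₁ a₂ ((sympBilin 2 F).flip b₁) ((sympBilin 2 F).flip b₂) hdX ha1 ha2 (by simpa using o11)
      (by simpa using o21) (by simpa using o12) (by simpa using o22) x hx
    simpa using h
  · have h := key Y b₁ b₂ (sympBilin 2 F a₁) (sympBilin 2 F a₂) hdY hb1 hb2 (by simpa using o11)
      (by simpa using o12) (by simpa using o21) (by simpa using o22) y hy
    simpa using h

include hX hY in
/-- The torus element of an adapted basis. -/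
theorem exists_torus {a₁ a₂ b₁ b₂ : Vs} (hA : Adapted X Y a₁ a₂ b₁ b₂) {l : F} (hl : l ≠ 0) :
    ∃ G : GLs, G ∈ Cfsg.spGL 2 F ∧
      (∀ x, (G : Ms) *ᵥ x = x + ((l - 1) * f x b₂) • a₂ + ((l⁻¹ - 1) * f a₂ x) • b₂) ∧
      (∀ x ∈ X, (G : Ms) *ᵥ x ∈ X) ∧ ∀ y ∈ Y, (G : Ms) *ᵥ y ∈ Y := by
  let P : F → (Vs →ₗ[F] Vs) := fun l => LinearMap.id +
    (((l - 1) • (sympBilin 2 F).flip b₂).smulRight a₂) + (((l⁻¹ - 1) • sympBilin 2 F a₂).smulRight b₂)
  have hP : ∀ l x, P l x = x + ((l - 1) * f x b₂) • a₂ + ((l⁻¹ - 1) * f a₂ x) • b₂ := fun l x => by simp [P]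
  have hb2a2 : f b₂ a₂ = -1 := by rw [sympForm_comm, hA.o22]
  have hPP : ∀ l, l ≠ 0 → ∀ x, P l (P l⁻¹ x) = x := by
    intro l hl x
    rw [hP, hP, inv_inv]
    simp only [form_add_left, form_add_right, form_smul_left, form_smul_right, sympForm_self, hA.o22]
    match_scalars <;> field_simp <;> ring
  let G : GLs := ⟨LinearMap.toMatrix' (P l), LinearMap.toMatrix' (P l⁻¹),
    by rw [← LinearMap.toMatrix'_comp, ← LinearMap.toMatrix'_id]; congr 1
       exact LinearMap.ext fun x => hPP l hl x,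
    by rw [← LinearMap.toMatrix'_comp, ← LinearMap.toMatrix'_id]; congr 1
       refine LinearMap.ext fun x => ?_
       have h := hPP l⁻¹ (inv_ne_zero hl) x
       rwa [inv_inv] at h⟩
  have hG : ∀ x, (G : Ms) *ᵥ x = x + ((l - 1) * f x b₂) • a₂ + ((l⁻¹ - 1) * f a₂ x) • b₂ := fun x => by
    rw [← hP]; exact LinearMap.toMatrix'_mulVec _ _
  refine ⟨G, fun x y => ?_, hG, fun x hx => ?_, fun y hy => ?_⟩
  · show f ((G : Ms) *ᵥ x) ((G : Ms) *ᵥ y) = f x y
    rw [hG, hG]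
    simp only [form_add_left, form_add_right, form_smul_left, form_smul_right, sympForm_self, hA.o22, hb2a2]
    rw [sympForm_comm b₂ y, sympForm_comm a₂ x]
    field_simp
    ring
  · rw [hG, hX a₂ hA.a2X x hx, mul_zero, zero_smul, add_zero]
    exact X.add_mem hx (X.smul_mem _ hA.a2X)
  · rw [hG, hY y hy b₂ hA.b2Y, mul_zero, zero_smul, add_zero]
    exact Y.add_mem hy (Y.smul_mem _ hA.b2Y)

end

variable {H : Subgroup (GL (Fin 2 ⊕ Fin 2) F)}

/-- An element fixing one centre and scaling the other separates paired transvections. -/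
theorem root_of_scale (hH : H ≤ Cfsg.spGL 2 F) {a b : Vs} (hab : f a b = 0) {p q μ : F} (hq : q ≠ 0)
    (hμ : μ * μ ≠ 1) (hA : ∀ x, T a (p * x) * T b (q * x) ∈ H) {G : GLs} (hG : G ∈ H)
    (ha : (G : Ms) *ᵥ a = a) (hb : (G : Ms) *ᵥ b = μ • b) : b ∈ root H := by
  intro c
  have hne : q * (μ * μ - 1) ≠ 0 := mul_ne_zero hq (sub_ne_zero.mpr hμ)
  obtain ⟨x, hx⟩ : ∃ x, q * (μ * μ - 1) * x = c := ⟨c / (q * (μ * μ - 1)), mul_div_cancel₀ _ hne⟩
  have h1 := H.mul_mem (H.mul_mem (H.mul_mem hG (hA x)) (H.inv_mem hG)) (hA (-x))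
  rw [← conj_mul, conj_T (hH hG), conj_T (hH hG), ha, hb, T_smul] at h1
  have e1 : T a (p * x) * T b (μ * μ * (q * x)) * (T a (p * -x) * T b (q * -x)) = T b c := by
    rw [(T_comm hab (p * x) (μ * μ * (q * x))).eq, mul_assoc, ← mul_assoc (T a (p * x)), T_add,
      show p * x + p * -x = 0 by ring, T_zero', one_mul, T_add, ← hx]
    congr 1
    ring
  rwa [e1] at h1

/-- A mixed pair and its image under an element fixing the first vector give a root. -/
theorem root_of_move (h2 : (2 : F) ≠ 0) (hH : H ≤ Cfsg.spGL 2 F) {u v : Vs} (hP : PairIn H u v) {G : GLs}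
    (hG : G ∈ H) (hu : (G : Ms) *ᵥ u = u) (hμ : f v ((G : Ms) *ᵥ v) ≠ 0) : u ∈ root H := by
  have hS : ∀ a : Vs, f u a = 0 → S u a 0 0 1 = E u a := fun a ha =>
    gl_ext fun x => by rw [S_mulVec ha, E_mulVec ha]; module
  have hP' := hP.map hH hG
  rw [hu] at hP'
  set v' := (G : Ms) *ᵥ v with hv'
  intro c
  obtain ⟨s, hs⟩ : ∃ s, -(2 * (s * f v v')) = c := ⟨-c / (2 * f v v'), by field_simp⟩
  have hsv : f u (s • v) = 0 := by rw [form_smul_right, hP.1, mul_zero]
  have hA : S u (s • v) 0 0 1 ∈ H := by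
    rw [hS _ hsv]
    have h := hP.symm.2 s
    rwa [E_comm (by rw [form_smul_left, form_flip hP.1, mul_zero])] at h
  have hB : S u v' 0 0 1 ∈ H := by
    rw [hS _ hP'.1]
    have h := hP'.2 1
    rwa [one_smul] at h
  have h1 := T_of_two_mixed hsv hP'.1 hA hB
  rwa [form_smul_left, hs] at h1

section

variable {X Y : Submodule F (Fin 2 ⊕ Fin 2 → F)} {D : Fin 2 → Submodule F (Fin 2 ⊕ Fin 2 → F)}

/-- From a mixed pair with two components to a root vector inside one of the subspaces. -/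
theorem exists_root_pure (h2 : (2 : F) ≠ 0)
    (hX : ∀ u ∈ D 0, ∀ v ∈ D 0, f u v = 0) (hY : ∀ u ∈ D 1, ∀ v ∈ D 1, f u v = 0)
    (hsup : D 0 ⊔ D 1 = ⊤) (hinf : D 0 ⊓ D 1 = ⊥)
    (hdX : Module.finrank F (D 0) = 2) (hdY : Module.finrank F (D 1) = 2)
    {l : F} (hl : l ≠ 0) (hl1 : l * l ≠ 1) (hHK : H ≤ Cfsg.spGL 2 F)
    (hMH : Cfsg.Geo.decompositionStabilizer D ⊓ Cfsg.spGL 2 F ≤ H)
    (hmap : ∀ (g : GLs) (i j : Fin 2), (∀ x ∈ D i, (g : Ms) *ᵥ x ∈ D j) →
      (D i).map (Matrix.toLin' (g : Ms)) = D j)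
    {u₀ u₁ v₀ v₁ : Vs} (hu₀ : u₀ ∈ D 0) (hu₁ : u₁ ∈ D 1) (hu₀n : u₀ ≠ 0) (hu₁n : u₁ ≠ 0)
    (hv₀ : v₀ ∈ D 0) (hv₁ : v₁ ∈ D 1) (hP : PairIn H (u₀ + u₁) (v₀ + v₁))
    (huv : ∀ c : F, v₀ + v₁ ≠ c • (u₀ + u₁)) :
    (∃ b ∈ D 1, b ≠ 0 ∧ b ∈ root H) ∨ (∃ b ∈ D 0, b ≠ 0 ∧ b ∈ root H) := by
  have hli : l⁻¹ - l ≠ 0 := fun e => hl1 (by
    field_simp at e
    linear_combination -e)
  have hli1 : l⁻¹ * l⁻¹ ≠ 1 := fun e => hl1 (by field_simp at e; linear_combination -e)
  have stab : ∀ g : GLs, g ∈ Cfsg.spGL 2 F → (∀ x ∈ D 0, (g : Ms) *ᵥ x ∈ D 0) →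
      (∀ x ∈ D 1, (g : Ms) *ᵥ x ∈ D 1) → g ∈ H := fun g hg h0 h1 =>
    hMH ⟨⟨1, fun i => hmap g i _ fun x hx => by
      rw [Equiv.Perm.one_apply]
      fin_cases i
      · exact h0 x hx
      · exact h1 x hx⟩, hg⟩
  have hold : ∀ a ∈ D 0, ∀ b ∈ D 1, f a b = 0 → E a b ∈ H := by
    intro a ha b hb hab
    refine stab _ (E_mem a b) (fun x hx => ?_) (fun x hx => ?_) <;> rw [E_mulVec hab]
    · rw [hX x hx a ha, zero_smul, add_zero]; exact (D 0).add_mem hx ((D 0).smul_mem _ ha)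
    · rw [hY x hx b hb, zero_smul, add_zero]; exact (D 1).add_mem hx ((D 1).smul_mem _ hb)
  have torus : ∀ {a₁ a₂ b₁ b₂ : Vs}, Adapted (D 0) (D 1) a₁ a₂ b₁ b₂ → ∃ G ∈ H, (G : Ms) *ᵥ a₁ = a₁ ∧
      (G : Ms) *ᵥ b₁ = b₁ ∧ (G : Ms) *ᵥ a₂ = l • a₂ ∧ (G : Ms) *ᵥ b₂ = l⁻¹ • b₂ := by
    intro a₁ a₂ b₁ b₂ hA
    obtain ⟨G, hG, hGv, h0, h1⟩ := exists_torus hX hY hA hl
    refine ⟨G, stab G hG h0 h1, ?_, ?_, ?_, ?_⟩ <;> rw [hGv]
    · rw [hA.o12, hX a₂ hA.a2X a₁ hA.a1X]; simp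
    · rw [hA.o21, hY b₁ hA.b1Y b₂ hA.b2Y]; simp
    · rw [hA.o22, sympForm_self]; module
    · rw [hA.o22, sympForm_self]; module
  -- paired transvections on an orthogonal pair
  have plane : ∀ {a b : Vs}, a ∈ D 0 → b ∈ D 1 → a ≠ 0 → b ≠ 0 → f a b = 0 → ∀ p q : F, (p ≠ 0 ∨ q ≠ 0) →
      (∀ x, T a (p * x) * T b (q * x) ∈ H) →
      (∃ b ∈ D 1, b ≠ 0 ∧ b ∈ root H) ∨ (∃ b ∈ D 0, b ≠ 0 ∧ b ∈ root H) := by
    intro a b ha hb ha0 hb0 hab p q hpq hA
    obtain ⟨a', b', hAd⟩ := exists_adapted' hX hY hsup hinf hdX hdY ha hb ha0 hb0 hab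
    by_cases hq : q = 0
    · obtain ⟨G, hG, -, hGb, hGa, -⟩ := torus hAd.swap
      refine Or.inr ⟨a, ha, ha0, root_of_scale hHK (form_flip hab) (hpq.resolve_right (not_not.mpr hq)) hl1
        (fun x => by rw [← (T_comm hab (p * x) (q * x)).eq]; exact hA x) hG hGb hGa⟩
    · obtain ⟨G, hG, hGa, -, -, hGb⟩ := torus hAd
      exact Or.inl ⟨b, hb, hb0, root_of_scale hHK hab hq hli1 hA hG hGa hGb⟩
  -- any root vector gives one in a subspace
  have pure : ∀ r, r ≠ 0 → r ∈ root H →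
      (∃ b ∈ D 1, b ≠ 0 ∧ b ∈ root H) ∨ (∃ b ∈ D 0, b ≠ 0 ∧ b ∈ root H) := by
    intro r hr0 hr
    obtain ⟨a, ha, b, hb, rfl⟩ := Submodule.mem_sup.mp (hsup.ge (Submodule.mem_top (x := r)))
    rcases eq_or_ne a 0 with rfl | ha0
    · rw [zero_add] at hr hr0; exact Or.inl ⟨b, hb, hr0, hr⟩
    rcases eq_or_ne b 0 with rfl | hb0
    · rw [add_zero] at hr hr0; exact Or.inr ⟨a, ha, hr0, hr⟩
    rcases eq_or_ne (f a b) 0 with hab | hab
    · refine plane ha hb ha0 hb0 hab 1 1 (Or.inl one_ne_zero) fun x => ?_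
      have e : E ((-x) • a) b * T (a + b) x = T a (1 * x) * T b (1 * x) := gl_ext fun z => by
        rw [gl_mulVec, gl_mulVec, E_mulVec (by rw [form_smul_left, hab, mul_zero]), T_mulVec, T_mulVec, T_mulVec]
        simp only [form_add_left, form_add_right, form_smul_left, form_smul_right, sympForm_self, hab,
          form_flip hab]
        match_scalars <;> ring
      rw [← e]
      exact H.mul_mem (hold _ ((D 0).smul_mem _ ha) b hb (by rw [form_smul_left, hab, mul_zero])) (hr x)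
    · set t := f a b with ht
      obtain ⟨a', b', hA⟩ := exists_adapted hX hY hsup hinf hdX hdY ha ((D 1).smul_mem t⁻¹ hb)
        (by rw [form_smul_right, ← ht, inv_mul_cancel₀ hab])
      have hab' : f a b' = 0 := hA.o12
      have hr' : ∀ c : F, (a + b) + (-(c * t)) • b' ∈ root H := by
        intro c
        have hc : f (c • a) b' = 0 := by rw [form_smul_left, hab', mul_zero]
        have h := root_map hHK (hold _ ((D 0).smul_mem c ha) b' hA.b2Y hc) hr
        rw [E_mulVec hc] at h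
        convert h using 1
        simp only [form_add_left, form_smul_right, sympForm_self, hab', hY b hb b' hA.b2Y, form_flip, sympForm_comm b a,
          ← ht]
        module
      obtain ⟨z, hz⟩ : ∃ z, z = (-t) • b' := ⟨_, rfl⟩
      refine Or.inl ⟨z, hz ▸ (D 1).smul_mem _ hA.b2Y, fun e => ?_, fun c => ?_⟩
      · rw [hz, smul_eq_zero, neg_eq_zero] at e
        have h22 := hA.o22
        rw [e.resolve_left hab, form_zero] at h22
        exact zero_ne_one h22
      have e : T (a + b + z) (c / 2) * T (a + b + (-1 : F) • z) (c / 2) * T (a + b) (-c) = T z c :=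
        gl_ext fun x => by
          have q1 : f b a = -t := by rw [sympForm_comm]
          have q2 : f b z = 0 := by rw [hz, form_smul_right, hY b hb b' hA.b2Y, mul_zero]
          have q3 : f a z = 0 := by rw [hz, form_smul_right, hab', mul_zero]
          simp only [gl_mulVec, T_mulVec, form_add_left, form_add_right, form_smul_left, form_smul_right,
            sympForm_self, ← ht, q1, q2, q3, form_flip q2, form_flip q3]
          match_scalars <;> field_simp <;> ring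
      rw [← e]
      refine H.mul_mem (H.mul_mem ?_ ?_) (hr _)
      · have := hr' 1 (c / 2); rwa [one_mul, ← hz] at this
      · have := hr' (-1) (c / 2)
        rwa [neg_mul, one_mul, show -(-t) = (-1 : F) * -t by ring, ← smul_smul, ← hz] at this
  have hsplit := hP.1
  rcases eq_or_ne (f u₀ u₁) 0 with ht | ht
  · -- orthogonal components
    obtain ⟨a₂, b₁, hA⟩ := exists_adapted' hX hY hsup hinf hdX hdY hu₀ hu₁ hu₀n hu₁n ht
    obtain ⟨hexX, hexY⟩ := expand hX hY hdX hdY hA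
    have ev₀ := hexX v₀ hv₀
    have ev₁ := hexY v₁ hv₁
    have hflip : f u₁ v₀ = -f v₀ u₁ := sympForm_comm _ _
    rw [form_add_left, form_add_right, form_add_right, hX u₀ hu₀ v₀ hv₀, hY u₁ hu₁ v₁ hv₁, hflip] at hsplit
    by_cases hv : f v₀ u₁ = 0
    · -- the pair lies in the plane of the components
      have hβ1 : f u₀ v₁ = 0 := by linear_combination hsplit + hv
      rw [hv, zero_smul, add_zero] at ev₀
      rw [hβ1, zero_smul, zero_add] at ev₁
      set α := f v₀ b₁ with hα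
      set β := f a₂ v₁ with hβ
      refine plane hu₀ hu₁ hu₀n hu₁n ht α β ?_ fun x => ?_
      · by_contra hno
        push Not at hno
        exact huv 0 (by rw [ev₀, ev₁, hno.1, hno.2]; simp)
      · have hc : f ((-(x / 2 * (α + β))) • u₀) u₁ = 0 := by rw [form_smul_left, ht, mul_zero]
        have e : E ((-(x / 2 * (α + β))) • u₀) u₁ * E ((x / 2) • (u₀ + u₁)) (v₀ + v₁) =
            T u₀ (α * x) * T u₁ (β * x) := gl_ext fun z => by
          rw [gl_mulVec, gl_mulVec, E_mulVec hc, E_mulVec (by rw [form_smul_left, hP.1, mul_zero]), T_mulVec,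
            T_mulVec, ev₀, ev₁]
          simp only [form_add_left, form_add_right, form_smul_left, form_smul_right, sympForm_self, ht,
            form_flip ht]
          match_scalars <;> field_simp <;> ring
        rw [← e]
        exact H.mul_mem (hold _ ((D 0).smul_mem _ hu₀) u₁ hu₁ hc) (hP.2 _)
    · -- move along the plane of the components
      refine pure _ ?_ (root_of_move h2 hHK hP (hold u₀ hu₀ u₁ hu₁ ht) ?_ ?_)
      · intro e
        exact hu₀n (by
          have : u₀ ∈ D 0 ⊓ D 1 := ⟨hu₀, by rw [eq_neg_of_add_eq_zero_left e]; exact (D 1).neg_mem hu₁⟩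
          rwa [hinf, Submodule.mem_bot] at this)
      · rw [E_mulVec ht]
        simp [form_add_left, sympForm_self, ht, form_flip ht]
      · rw [E_mulVec ht]
        simp only [form_add_left, form_add_right, form_smul_right, sympForm_self, hX v₀ hv₀ u₀ hu₀,
          hY v₁ hv₁ u₁ hu₁, hX v₀ hv₀ v₀ hv₀, hY v₁ hv₁ v₁ hv₁, sympForm_comm v₁ u₀, sympForm_comm v₁ v₀]
        intro e
        refine hv (mul_self_eq_zero.mp ((mul_eq_zero.mp
          (show (2 : F) * (f v₀ u₁ * f v₀ u₁) = 0 from ?_)).resolve_left h2))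
        have hβ : f u₀ v₁ = f v₀ u₁ := by linear_combination hsplit
        rw [hβ] at e
        linear_combination -e
  · -- hyperbolic components
    set t := f u₀ u₁ with htdef
    obtain ⟨a₂, b₂, hA⟩ := exists_adapted hX hY hsup hinf hdX hdY hu₀ ((D 1).smul_mem t⁻¹ hu₁)
      (by rw [form_smul_right, ← htdef, inv_mul_cancel₀ ht])
    obtain ⟨hexX, hexY⟩ := expand hX hY hdX hdY hA
    have ev₀ := hexX v₀ hv₀
    have ev₁ := hexY v₁ hv₁
    have hflip : f u₁ v₀ = -f v₀ u₁ := sympForm_comm _ _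
    rw [form_add_left, form_add_right, form_add_right, hX u₀ hu₀ v₀ hv₀, hY u₁ hu₁ v₁ hv₁, hflip] at hsplit
    rw [form_smul_right] at ev₀
    set γ := f v₀ b₂ with hγ
    set δ := f a₂ v₁ with hδ
    obtain ⟨α, hα⟩ : ∃ α, α = t⁻¹ * f v₀ u₁ := ⟨_, rfl⟩
    have hβ : f u₀ v₁ = t * α := by rw [hα, mul_inv_cancel_left₀ ht]; linear_combination hsplit
    rw [← hα] at ev₀
    rw [hβ] at ev₁
    have ev : v₀ + v₁ = α • (u₀ + u₁) + (γ • a₂ + δ • b₂) := by
      rw [ev₀, ev₁, smul_smul, mul_comm t α, mul_assoc, mul_inv_cancel₀ ht, mul_one]; module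
    obtain ⟨G, hG, hGa, hGb, hGa₂, hGb₂⟩ := torus hA
    have hGb' : (G : Ms) *ᵥ u₁ = u₁ := by
      have := congrArg (fun z => t • z) hGb
      simpa [mulVec_smul, smul_smul, mul_inv_cancel₀ ht] using this
    have hGu : (G : Ms) *ᵥ (u₀ + u₁) = u₀ + u₁ := by rw [mulVec_add, hGa, hGb']
    have qa : f (u₀ + u₁) a₂ = 0 := by
      rw [form_add_left, hX u₀ hu₀ a₂ hA.a2X, sympForm_comm u₁ a₂]
      have := hA.o21
      rw [form_smul_right] at this
      rw [(mul_eq_zero.mp this).resolve_left (inv_ne_zero ht)]; ring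
    have qb : f (u₀ + u₁) b₂ = 0 := by rw [form_add_left, hA.o12, hY u₁ hu₁ b₂ hA.b2Y, add_zero]
    have hu0 : u₀ + u₁ ≠ 0 := fun e => by
      have hu : u₀ = -u₁ := eq_neg_of_add_eq_zero_left e
      rw [hu, ← neg_one_smul F u₁, form_smul_left, sympForm_self, mul_zero] at htdef
      exact ht htdef
    by_cases hγδ : γ * δ ≠ 0
    · refine pure _ hu0 (root_of_move h2 hHK hP hG hGu ?_)
      rw [ev, mulVec_add, mulVec_smul, hGu, mulVec_add, mulVec_smul, mulVec_smul, hGa₂, hGb₂]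
      simp only [form_add_right, form_smul_right, form_add_left, form_smul_left] at qa qb ⊢
      simp only [← hγ, ← hδ, sympForm_self, hA.o22, sympForm_comm b₂ a₂, form_flip,
        sympForm_comm a₂ u₀, sympForm_comm a₂ u₁, sympForm_comm b₂ u₀, sympForm_comm b₂ u₁,
        sympForm_comm u₁ u₀, ← htdef]
      have hne := mul_ne_zero hγδ hli
      intro e
      refine hne ?_
      linear_combination e - α * (l * γ - γ) * qa - α * (l⁻¹ * δ - δ) * qb
    push Not at hγδ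
    have hw0 : γ ≠ 0 ∨ δ ≠ 0 := by
      by_contra hno
      push Not at hno
      exact huv α (by rw [ev, hno.1, hno.2]; simp)
    have getw : ∀ (w : Vs) (k ρ : F), γ • a₂ + δ • b₂ = k • w → k ≠ 0 → ρ ≠ 1 → (G : Ms) *ᵥ w = ρ • w →
        f (u₀ + u₁) w = 0 → PairIn H w (u₀ + u₁) := by
      intro w k ρ hw hk hρ hGw huw
      have hP' := hP.map hHK hG
      rw [hGu] at hP'
      refine PairIn.symm ⟨huw, fun c => ?_⟩
      obtain ⟨x, hx⟩ : ∃ x, x * ((ρ - 1) * k) = c :=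
        ⟨c / ((ρ - 1) * k), div_mul_cancel₀ _ (mul_ne_zero (sub_ne_zero.mpr hρ) hk)⟩
      have hc1 : f ((-x) • (u₀ + u₁)) (v₀ + v₁) = 0 := by rw [form_smul_left, hP.1, mul_zero]
      have hc2 : f (x • (u₀ + u₁)) ((G : Ms) *ᵥ (v₀ + v₁)) = 0 := by rw [form_smul_left, hP'.1, mul_zero]
      have e : E (x • (u₀ + u₁)) ((G : Ms) *ᵥ (v₀ + v₁)) * E ((-x) • (u₀ + u₁)) (v₀ + v₁) =
          E (c • (u₀ + u₁)) w := gl_ext fun z => by
        rw [gl_mulVec, E_mulVec hc2, E_mulVec hc1, E_mulVec (by rw [form_smul_left, huw, mul_zero]), ev,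
          mulVec_add, mulVec_smul, hGu, hw, mulVec_smul, hGw, ← hx]
        have huw' := form_flip huw
        rw [form_add_left] at huw
        rw [form_add_right] at huw'
        simp only [form_add_left, form_add_right, form_smul_left, form_smul_right, sympForm_self,
          sympForm_comm u₁ u₀, ← htdef, eq_neg_of_add_eq_zero_left huw, eq_neg_of_add_eq_zero_left huw']
        match_scalars <;> ring
      rw [← e]
      exact H.mul_mem (hP'.2 _) (hP.2 _)
    obtain ⟨G', hG', hG'a₂, hG'b₂, hG'a, hG'b⟩ := torus hA.swap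
    have hG'b' : (G' : Ms) *ᵥ u₁ = l⁻¹ • u₁ := by
      have := congrArg (fun z => t • z) hG'b
      simp only [mulVec_smul, smul_smul] at this
      rwa [mul_inv_cancel₀ ht, one_smul, show t * (l⁻¹ * t⁻¹) = l⁻¹ by field_simp] at this
    have hμ : f (u₀ + u₁) ((G' : Ms) *ᵥ (u₀ + u₁)) ≠ 0 := by
      rw [mulVec_add, hG'a, hG'b']
      simp only [form_add_left, form_add_right, form_smul_right, sympForm_self, sympForm_comm u₁ u₀, ← htdef]
      have hne := mul_ne_zero ht hli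
      intro e
      exact hne (by linear_combination e)
    by_cases hδ0 : δ = 0
    · have hγ0 : γ ≠ 0 := hw0.resolve_right (not_not.mpr hδ0)
      have hP2 := getw a₂ γ l (by rw [hδ0, zero_smul, add_zero]) hγ0 (fun e => hl1 (by rw [e, mul_one]))
        hGa₂ qa
      exact Or.inr ⟨a₂, hA.a2X, fun e => by have := hA.o22; rw [e, zero_form] at this; exact zero_ne_one this,
        root_of_move h2 hHK hP2 hG' hG'a₂ hμ⟩
    · have hγ0 : γ = 0 := (mul_eq_zero.mp hγδ).resolve_right hδ0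
      have hP2 := getw b₂ δ l⁻¹ (by rw [hγ0, zero_smul, zero_add]) hδ0 (fun e => hli1 (by rw [e, mul_one]))
        hGb₂ qb
      exact Or.inl ⟨b₂, hA.b2Y, fun e => by have := hA.o22; rw [e, form_zero] at this; exact zero_ne_one this,
        root_of_move h2 hHK hP2 hG' hG'b₂ hμ⟩

end

/-- The stabiliser of a Lagrangian pair is maximal. -/
theorem isMaximalIn_pair (hl0 : ∃ l : F, l ≠ 0 ∧ l * l ≠ 1) (h2 : (2 : F) ≠ 0) (D : Fin 2 → Submodule F Vs)
    (hD : Cfsg.Geo.IsMDecomposition 2 D)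
    (hts : ∀ i, Cfsg.Geo.IsTotallySingularFor (Cfsg.sympForm 2 F) (D i)) :
    Cfsg.Geo.IsMaximalIn (Cfsg.spGL 2 F) (Cfsg.Geo.decompositionStabilizer D ⊓ Cfsg.spGL 2 F) := by
  classical
  obtain ⟨l, hl, hl1⟩ := hl0
  set X := D 0 with hXdef
  set Y := D 1 with hYdef
  have hX : ∀ u ∈ X, ∀ v ∈ X, f u v = 0 := fun u hu v hv => hts 0 u hu v hv
  have hY : ∀ u ∈ Y, ∀ v ∈ Y, f u v = 0 := fun u hu v hv => hts 1 u hu v hv
  have hinf : X ⊓ Y = ⊥ := disjoint_iff.mp (hD.indep.pairwiseDisjoint (by simp : (0 : Fin 2) ≠ 1))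
  have hsup : X ⊔ Y = ⊤ := by
    rw [eq_top_iff, ← hD.iSup_eq_top]
    refine iSup_le fun i => ?_
    fin_cases i
    · exact le_sup_left
    · exact le_sup_right
  have hinf' : Y ⊓ X = ⊥ := by rwa [inf_comm]
  have hsup' : Y ⊔ X = ⊤ := by rwa [sup_comm]
  have hdX : Module.finrank F X = 2 := hD.finrank_eq 0
  have hdY : Module.finrank F Y = 2 := hD.finrank_eq 1
  have hmap : ∀ (g : GL (Fin 2 ⊕ Fin 2) F) (i j : Fin 2),
      (∀ x ∈ D i, (g : Matrix _ _ F) *ᵥ x ∈ D j) →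
      (D i).map (Matrix.toLin' (g : Matrix (Fin 2 ⊕ Fin 2) (Fin 2 ⊕ Fin 2) F)) = D j := by
    intro g i j h
    have hinj : Function.Injective (Matrix.toLin' (g : Matrix (Fin 2 ⊕ Fin 2) (Fin 2 ⊕ Fin 2) F)) := by
      intro x y hxy
      have h3 := congrArg (((g⁻¹ : GL (Fin 2 ⊕ Fin 2) F) : Matrix (Fin 2 ⊕ Fin 2) (Fin 2 ⊕ Fin 2) F) *ᵥ ·) hxy
      simpa [Matrix.toLin'_apply, mulVec_mulVec] using h3
    refine Submodule.eq_of_le_of_finrank_eq ?_ ?_
    · rintro _ ⟨x, hx, rfl⟩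
      rw [Matrix.toLin'_apply]; exact h x hx
    · rw [← (Submodule.equivMapOfInjective _ hinj (D i)).finrank_eq, hD.finrank_eq, hD.finrank_eq]
  have hline : ∀ (Z : Submodule F Vs) (w : Vs), Module.finrank F Z = 2 →
      ∃ z ∈ Z, z ∉ Submodule.span F {w} := by
    intro Z w hZ
    by_contra hno
    push Not at hno
    have h3 := Submodule.finrank_mono (show Z ≤ Submodule.span F {w} from hno)
    have h4 := finrank_span_le_card (R := F) ({w} : Set Vs)
    simp only [Set.toFinset_singleton, Finset.card_singleton] at h4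
    omega
  refine ⟨lt_of_le_of_ne inf_le_right fun e => ?_, fun H hMH hHK => ?_⟩
  · obtain ⟨x, hx, hx0⟩ := hline X 0 hdX
    have hx0' : x ∉ (⊥ : Submodule F Vs) := fun h => hx0 (by
      rw [Submodule.mem_bot] at h; rw [h]; exact Submodule.zero_mem _)
    obtain ⟨d₁, hd₁, -, hxd⟩ := sep_dual hY hX hsup' hinf' (S := (⊥ : Submodule F Vs)) bot_le hx hx0'
    obtain ⟨d₀, hd₀, hd₀x⟩ := hline X x hdX
    obtain ⟨σ, hσ⟩ := (e.ge (T_mem (d₀ + d₁) 1)).1
    have h1 : x + (f x (d₀ + d₁)) • (d₀ + d₁) ∈ D (σ 0) := by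
      rw [← hσ 0]
      exact ⟨x, hx, by rw [Matrix.toLin'_apply, T_mulVec, one_mul]⟩
    set c := f x (d₀ + d₁) with hc
    have hc0 : c ≠ 0 := by
      rw [hc, form_add_right, hX x hx d₀ hd₀, zero_add, sympForm_comm, hxd]
      exact neg_ne_zero.mpr one_ne_zero
    have h3 : ∀ i : Fin 2, i = 0 ∨ i = 1 := by decide
    rcases h3 (σ 0) with h | h <;> rw [h] at h1
    · have h4 : c • d₁ ∈ X ⊓ Y := ⟨by
        have := X.sub_mem (X.sub_mem h1 hx) (X.smul_mem c hd₀)
        simpa [smul_add, add_sub_cancel_left] using this, Y.smul_mem c hd₁⟩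
      rw [hinf, Submodule.mem_bot, smul_eq_zero] at h4
      rcases h4 with h4 | h4
      · exact hc0 h4
      · rw [h4, zero_form] at hxd; exact zero_ne_one hxd
    · have h4 : x + c • d₀ ∈ X ⊓ Y := ⟨X.add_mem hx (X.smul_mem c hd₀), by
        have := Y.sub_mem h1 (Y.smul_mem c hd₁)
        simpa [smul_add, add_sub_assoc] using this⟩
      rw [hinf, Submodule.mem_bot] at h4
      refine hd₀x (Submodule.mem_span_singleton.mpr ⟨-c⁻¹, ?_⟩)
      rw [eq_neg_of_add_eq_zero_left h4, smul_neg, neg_smul, neg_neg, smul_smul, inv_mul_cancel₀ hc0,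
        one_smul]
  by_cases hle : H ≤ Cfsg.Geo.decompositionStabilizer D
  · exact Or.inl (le_antisymm (le_inf hle hHK) hMH)
  right
  obtain ⟨g, hgH, hg⟩ := SetLike.not_le_iff_exists.mp hle
  have hold : ∀ a ∈ X, ∀ b ∈ Y, f a b = 0 → E a b ∈ H := by
    intro a ha b hb hab
    refine hMH ⟨⟨1, fun i => hmap _ i _ fun x hx => ?_⟩, E_mem a b⟩
    rw [E_mulVec hab, Equiv.Perm.one_apply]
    fin_cases i
    · rw [hX x hx a ha, zero_smul, add_zero]; exact X.add_mem hx (X.smul_mem _ ha)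
    · rw [hY x hx b hb, zero_smul, add_zero]; exact Y.add_mem hx (Y.smul_mem _ hb)
  have hold' : ∀ a ∈ Y, ∀ b ∈ X, f a b = 0 → E a b ∈ H := fun a ha b hb hab => by
    rw [E_comm hab]; exact hold b hb a ha (form_flip hab)
  have holdP : ∀ a ∈ X, ∀ b ∈ Y, f a b = 0 → PairIn H a b := fun a ha b hb hab =>
    ⟨hab, fun c => hold _ (X.smul_mem c ha) b hb (by rw [form_smul_left, hab, mul_zero])⟩
  -- the image of some centre has two components
  obtain ⟨u₀, hu₀, u₁, hu₁, v₀, hv₀, v₁, hv₁, hu₀n, hu₁n, hP, huv⟩ :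
      ∃ u₀ ∈ X, ∃ u₁ ∈ Y, ∃ v₀ ∈ X, ∃ v₁ ∈ Y, u₀ ≠ 0 ∧ u₁ ≠ 0 ∧
        PairIn H (u₀ + u₁) (v₀ + v₁) ∧ ∀ c : F, v₀ + v₁ ≠ c • (u₀ + u₁) := by
    let gm := (g : Matrix (Fin 2 ⊕ Fin 2) (Fin 2 ⊕ Fin 2) F)
    have hinj : ∀ a b : Vs, gm *ᵥ a = gm *ᵥ b → a = b := fun a b h => by
      have h3 := congrArg (((g⁻¹ : GL (Fin 2 ⊕ Fin 2) F) : Matrix (Fin 2 ⊕ Fin 2) (Fin 2 ⊕ Fin 2) F) *ᵥ ·) h
      simpa [gm, mulVec_mulVec] using h3
    have himg : ∃ a, (a ∈ X ∨ a ∈ Y) ∧ a ≠ 0 ∧ gm *ᵥ a ∉ X ∧ gm *ᵥ a ∉ Y := by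
      by_contra hno
      push Not at hno
      have hone : ∀ i : Fin 2, ∃ j : Fin 2, ∀ x ∈ D i, gm *ᵥ x ∈ D j := by
        intro i
        have hcl : ∀ x ∈ D i, gm *ᵥ x ∈ X ∨ gm *ᵥ x ∈ Y := by
          intro x hx
          rcases eq_or_ne x 0 with rfl | hx0
          · exact Or.inl (by rw [mulVec_zero]; exact X.zero_mem)
          by_cases h : gm *ᵥ x ∈ X
          · exact Or.inl h
          · have h3 : x ∈ X ∨ x ∈ Y := by
              fin_cases i
              · exact Or.inl hx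
              · exact Or.inr hx
            exact Or.inr (hno x h3 hx0 h)
        by_cases hall : ∀ x ∈ D i, gm *ᵥ x ∈ X
        · exact ⟨0, hall⟩
        push Not at hall
        obtain ⟨y, hy, hyX⟩ := hall
        refine ⟨1, fun x hx => ?_⟩
        rcases hcl x hx with h | h
        · rcases hcl _ ((D i).add_mem hx hy) with h' | h'
          · rw [mulVec_add] at h'
            exact absurd ((Submodule.add_mem_iff_right X h).mp h') hyX
          · rw [mulVec_add] at h'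
            exact (Submodule.add_mem_iff_left Y ((hcl y hy).resolve_left hyX)).mp h'
        · exact h
      choose σ hσ using hone
      refine hg ⟨Equiv.ofBijective σ ⟨fun i j hij => ?_, (Finite.injective_iff_surjective).mp (fun i j hij => ?_)⟩,
        fun i => hmap g i _ (hσ i)⟩
      all_goals
        by_contra hne
        have h3 := hmap g i _ (hσ i)
        rw [hij, ← hmap g j _ (hσ j)] at h3
        have hinj' : Function.Injective (Matrix.toLin' gm) := fun a b h => hinj a b (by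
          simpa [Matrix.toLin'_apply] using h)
        have h4 := Submodule.map_injective_of_injective hinj' h3
        have h5 := hD.indep.pairwiseDisjoint hne
        rw [Function.onFun, h4, disjoint_self] at h5
        have h6 := hD.finrank_eq j
        rw [h5, finrank_bot] at h6
        omega
    obtain ⟨a, haXY, ha0, haX, haY⟩ := himg
    obtain ⟨b, hab, hpair, hbind⟩ : ∃ b, f a b = 0 ∧ PairIn H a b ∧ ∀ c : F, b ≠ c • a := by
      have key : ∀ (A B : Submodule F Vs), a ∈ A → A ⊓ B = ⊥ → Module.finrank F B = 2 →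
          (∀ b ∈ B, f a b = 0 → PairIn H a b) → ∃ b, f a b = 0 ∧ PairIn H a b ∧ ∀ c : F, b ≠ c • a := by
        intro A B haA hAB hB hp
        let φ : B →ₗ[F] F := (sympBilin 2 F a).comp B.subtype
        have h1 := φ.finrank_range_add_finrank_ker
        have h3 : Module.finrank F φ.range ≤ 1 := by simpa using Submodule.finrank_le φ.range
        have hk : φ.ker ≠ ⊥ := fun e => by rw [e, finrank_bot] at h1; omega
        obtain ⟨b, hb, hb0⟩ := Submodule.exists_mem_ne_zero_of_ne_bot hk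
        have hab : f a b = 0 := by simpa [φ] using hb
        refine ⟨b, hab, hp b b.2 hab, fun c hc => hb0 (Subtype.ext ?_)⟩
        have h4 : (b : Vs) ∈ A ⊓ B := ⟨hc ▸ A.smul_mem c haA, b.2⟩
        rw [hAB, Submodule.mem_bot] at h4
        exact h4
      rcases haXY with ha | ha
      · exact key X Y ha hinf hdY fun b hb hab => holdP a ha b hb hab
      · exact key Y X ha hinf' hdX fun b hb hab => (holdP b hb a ha (form_flip hab)).symm
    have hP := hpair.map hHK hgH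
    obtain ⟨u₀, hu₀, u₁, hu₁, hu⟩ := Submodule.mem_sup.mp (hsup.ge (Submodule.mem_top (x := gm *ᵥ a)))
    obtain ⟨v₀, hv₀, v₁, hv₁, hv⟩ := Submodule.mem_sup.mp (hsup.ge (Submodule.mem_top (x := gm *ᵥ b)))
    refine ⟨u₀, hu₀, u₁, hu₁, v₀, hv₀, v₁, hv₁, fun e => ?_, fun e => ?_, by rw [hu, hv]; exact hP,
      fun c hc => hbind c (hinj _ _ ?_)⟩
    · exact haY (by rw [← hu, e, zero_add]; exact hu₁)
    · exact haX (by rw [← hu, e, add_zero]; exact hu₀)
    · rw [mulVec_smul, ← hu, ← hv, hc]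
  -- a transvection in one of the subspaces
  have hroot : (∃ b ∈ Y, b ≠ 0 ∧ b ∈ root H) ∨ (∃ b ∈ X, b ≠ 0 ∧ b ∈ root H) :=
    exists_root_pure h2 hX hY hsup hinf hdX hdY hl hl1 hHK hMH hmap hu₀ hu₁ hu₀n hu₁n hv₀ hv₁ hP huv
  obtain ⟨s, hs, hsX, hsY⟩ := exists_swap hX hY hsup hinf
  have hsH : s ∈ H := hMH ⟨⟨Equiv.swap 0 1, fun i => hmap s i _ fun x hx => by
    fin_cases i
    · simpa using hsX x hx
    · simpa using hsY x hx⟩, hs⟩
  obtain ⟨hXr, hYr⟩ : (∀ x ∈ X, x ∈ root H) ∧ ∀ y ∈ Y, y ∈ root H := by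
    have hsne : ∀ b : Vs, b ≠ 0 → (s : Matrix (Fin 2 ⊕ Fin 2) (Fin 2 ⊕ Fin 2) F) *ᵥ b ≠ 0 := fun b hb h => hb (by
      have h3 := congrArg (((s⁻¹ : GL (Fin 2 ⊕ Fin 2) F) : Matrix (Fin 2 ⊕ Fin 2) (Fin 2 ⊕ Fin 2) F) *ᵥ ·) h
      simpa [mulVec_mulVec] using h3)
    rcases hroot with ⟨b, hb, hb0, hbr⟩ | ⟨b, hb, hb0, hbr⟩
    · have hy := fun y (hy : y ∈ Y) => root_all hX hY hsup hinf hHK hold hb hb0 hbr hy
      exact ⟨fun x hx => root_all hY hX hsup' hinf' hHK hold' (hsY b hb) (hsne b hb0)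
        (root_map hHK hsH hbr) hx, hy⟩
    · have hx := fun x (hx : x ∈ X) => root_all hY hX hsup' hinf' hHK hold' hb hb0 hbr hx
      exact ⟨hx, fun y hy => root_all hX hY hsup hinf hHK hold (hsX b hb) (hsne b hb0)
        (root_map hHK hsH hbr) hy⟩
  refine eq_spGL hHK fun v => ?_
  obtain ⟨a, ha, b, hb, rfl⟩ := Submodule.mem_sup.mp (hsup.ge (Submodule.mem_top (x := v)))
  by_cases hab : f a b = 0
  · rcases eq_or_ne a 0 with rfl | ha0
    · rw [zero_add]; exact hYr b hb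
    have ha' : a ∉ (⊥ : Submodule F Vs) := fun h => ha0 ((Submodule.mem_bot F).mp h)
    obtain ⟨b', hb', -, hb'a⟩ := sep_dual hY hX hsup' hinf' (S := (⊥ : Submodule F Vs)) bot_le ha ha'
    have hab' : f a b' = -1 := by rw [sympForm_comm, hb'a]
    have h1 := root_add hHK (hXr a ha) (hYr b' hb') (by rw [hab']; exact neg_ne_zero.mpr one_ne_zero)
    have h3 := root_add hHK h1 (hYr (b - b') (Y.sub_mem hb hb')) (by
      rw [form_add_left, form_sub_right, hab, hab', hY b' hb' _ (Y.sub_mem hb hb')]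
      simp)
    rwa [show a + b' + (b - b') = a + b by abel] at h3
  · exact root_add hHK (hXr a ha) (hYr b hb) hab

end Cfsg.Agent.Lib.SympFourOdd.LagPair
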