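import Cfsg.Agent.Lib.SympFourOdd.Common
import Cfsg.Agent.Lib.ExtFieldMax.SympQuadNormalizer

/-!
The semilinear group of a self-adjoint quadratic extension field is maximal in the four-dimensional
symplectic group of odd characteristic. The extension is given by a matrix `j` with `j² = d`, `d` a
non-square, self-adjoint for the form.
-/

set_option autoImplicit false
set_option linter.unusedSectionVars false

namespace Cfsg.Agent.Lib.SympFourOdd.SelfAdjoint

open Matrix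
open Cfsg.Agent.Lib Cfsg.Agent.Lib.Forms Cfsg.Agent.Lib.SympMax
open Cfsg.Agent.Lib.ExtFieldMax.SympQuad (gl_ext gl_mulVec T_add T_comm Semi quad_indep d_ne_zero norm_ne_zero)

variable {F : Type*} [Field F] [Finite F]

local notation "Vs" => (Fin 2 ⊕ Fin 2 → F)
local notation "f" => Cfsg.sympForm 2 F
local notation "GLs" => GL (Fin 2 ⊕ Fin 2) F
local notation "Ms" => Matrix (Fin 2 ⊕ Fin 2) (Fin 2 ⊕ Fin 2) F

variable (j : Matrix (Fin 2 ⊕ Fin 2) (Fin 2 ⊕ Fin 2) F) (d : F)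

/-- The root elements of the extension with centre the line of `v`. -/
noncomputable def R (v : Fin 2 ⊕ Fin 2 → F) (B C : F) : GL (Fin 2 ⊕ Fin 2) F :=
  S v (j *ᵥ v) (d * B) B C

variable (hjj : ∀ x : Fin 2 ⊕ Fin 2 → F, j *ᵥ (j *ᵥ x) = d • x)
  (hjf : ∀ x y : Fin 2 ⊕ Fin 2 → F, Cfsg.sympForm 2 F (j *ᵥ x) y = Cfsg.sympForm 2 F x (j *ᵥ y))
  (hd : ∀ s : F, s * s ≠ d) (h2 : (2 : F) ≠ 0)

include hjf h2 in
theorem f_jv (v : Vs) : f (j *ᵥ v) v = 0 := by
  have h := hjf v v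
  rw [sympForm_comm v (j *ᵥ v)] at h
  exact (mul_eq_zero.mp (show (2 : F) * f (j *ᵥ v) v = 0 by linear_combination h)).resolve_left h2

include hjf h2 in
theorem f_vj (v : Vs) : f v (j *ᵥ v) = 0 := by rw [sympForm_comm, f_jv j hjf h2, neg_zero]

include hjj hjf h2 in
theorem R_semi (v : Vs) (B C : F) : Semi j (R j d v B C) := by
  refine ⟨1, Or.inl rfl, fun x => ?_⟩
  rw [R, S_mulVec (f_vj j hjf h2 v), S_mulVec (f_vj j hjf h2 v), one_smul, mulVec_add, mulVec_add, mulVec_smul,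
    mulVec_smul, hjj, hjf x v, hjf x (j *ᵥ v), hjj, form_smul_right]
  match_scalars <;> ring

theorem R_mem (v : Vs) (B C : F) : R j d v B C ∈ Cfsg.spGL 2 F := S_mem _ _ _ _ _

include hjj hd in
theorem indep_j {v : Vs} (hv : v ≠ 0) {a b : F} (h : a • v + b • (j *ᵥ v) = 0) : a = 0 ∧ b = 0 := by
  by_contra hne
  have hN := norm_ne_zero d hd (a := a) (b := b) (by tauto)
  have e1 := congrArg (fun z => a • z - b • (j *ᵥ z)) h
  simp only [mulVec_add, mulVec_smul, hjj, mulVec_zero, smul_zero, sub_zero] at e1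
  have e2 : (a * a - d * (b * b)) • v = 0 := by rw [← e1]; module
  exact hv ((smul_eq_zero.mp e2).resolve_left hN)

include hjj hjf hd h2 in
/-- An element mapping lines to lines is semilinear. -/
theorem semi_of_lines {g : GLs}
    (hl : ∀ w, ∃ a b : F, (g : Ms) *ᵥ (j *ᵥ w) = a • ((g : Ms) *ᵥ w) + b • (j *ᵥ ((g : Ms) *ᵥ w))) :
    Semi j g := by
  have hinj : ∀ {x y : Vs}, (g : Ms) *ᵥ x = (g : Ms) *ᵥ y → x = y := fun {x y} h0 => by
    have h1 := congrArg (((g⁻¹ : GLs) : Ms) *ᵥ ·) h0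
    simpa [mulVec_mulVec] using h1
  have hg0 : ∀ {x : Vs}, x ≠ 0 → (g : Ms) *ᵥ x ≠ 0 := fun {x} hx h0 => hx (hinj (by rw [h0, mulVec_zero]))
  choose al be hab using hl
  have hbe : ∀ u, u ≠ 0 → be u ≠ 0 := fun u hu h0 => by
    have h1 := hab u
    rw [h0, zero_smul, add_zero, ← mulVec_smul] at h1
    exact one_ne_zero (indep_j j d hjj hd hu (a := -al u) (b := 1) (by rw [hinj h1]; module)).2
  have hind : ∀ u w, u ≠ 0 → (∀ a b : F, w ≠ a • u + b • (j *ᵥ u)) → al u = al w ∧ be u = be w := by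
    intro u w hu hw
    have hw' : ∀ a b : F, (g : Ms) *ᵥ w ≠ a • ((g : Ms) *ᵥ u) + b • (j *ᵥ ((g : Ms) *ᵥ u)) := by
      intro a b e
      refine hw (a - b / be u * al u) (b / be u) (hinj ?_)
      rw [mulVec_add, mulVec_smul, mulVec_smul, hab u, e, smul_add, smul_smul, smul_smul,
        div_mul_cancel₀ _ (hbe u hu)]
      module
    have h1 := hab (u + w)
    rw [mulVec_add, mulVec_add, mulVec_add, mulVec_add, hab u, hab w] at h1
    obtain ⟨e1, e2, e3, e4⟩ := quad_indep j d hjj hd (hg0 hu) hw'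
      (a := al u - al (u + w)) (b := be u - be (u + w)) (a' := al w - al (u + w)) (b' := be w - be (u + w))
      (by rw [← sub_eq_zero] at h1; rw [← h1]; module)
    exact ⟨(sub_eq_zero.mp e1).trans (sub_eq_zero.mp e3).symm, (sub_eq_zero.mp e2).trans (sub_eq_zero.mp e4).symm⟩
  obtain ⟨e, he⟩ : ∃ e : Vs, e ≠ 0 := ⟨Pi.single (Sum.inl 0) 1, by simp⟩
  obtain ⟨w, hwe⟩ : ∃ w : Vs, ∀ a b : F, w ≠ a • e + b • (j *ᵥ e) := by
    obtain ⟨w, hw⟩ := exists_form_ne he
    exact ⟨w, fun a b h => hw (by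
      rw [h, form_add_right, form_smul_right, form_smul_right, sympForm_self, f_vj j hjf h2]; ring)⟩
  have hall : ∀ x, (g : Ms) *ᵥ (j *ᵥ x) = al e • ((g : Ms) *ᵥ x) + be e • (j *ᵥ ((g : Ms) *ᵥ x)) := by
    intro x
    rcases eq_or_ne x 0 with rfl | hx
    · simp
    have : al e = al x ∧ be e = be x := by
      by_cases hxe : ∃ a b : F, x = a • e + b • (j *ᵥ e)
      · obtain ⟨a, b, hxe⟩ := hxe
        obtain ⟨h1, h3⟩ := hind e w he hwe
        have hwx : ∀ c c' : F, w ≠ c • x + c' • (j *ᵥ x) := fun c c' h4 => hwe (c * a + d * c' * b)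
          (c * b + c' * a) (by rw [h4, hxe, mulVec_add, mulVec_smul, mulVec_smul, hjj]; module)
        obtain ⟨h4, h5⟩ := hind x w hx hwx
        exact ⟨h1.trans h4.symm, h3.trans h5.symm⟩
      · push Not at hxe
        exact hind e x he hxe
    rw [this.1, this.2]; exact hab x
  have h1 := hall (j *ᵥ e)
  rw [hjj, mulVec_smul, hall e, mulVec_add, mulVec_smul, mulVec_smul, hjj] at h1
  obtain ⟨c1, c2⟩ := indep_j j d hjj hd (hg0 he) (a := al e * al e + be e * be e * d - d)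
    (b := 2 * (al e * be e)) (by rw [← sub_eq_zero] at h1; rw [← neg_eq_zero, ← h1]; module)
  have ha : al e = 0 :=
    (mul_eq_zero.mp ((mul_eq_zero.mp c2).resolve_left h2)).resolve_right (hbe e he)
  refine ⟨be e, mul_self_eq_one_iff.mp (mul_right_cancel₀ (d_ne_zero d hd) ?_), fun x => ?_⟩
  · rw [ha] at c1; linear_combination c1
  · rw [hall x, ha, zero_smul, zero_add]

variable {H : Subgroup (GL (Fin 2 ⊕ Fin 2) F)}

include hjj hjf hd h2 in
theorem exists_step {u v : Vs} (hR : ∀ z B C, R j d z B C ∈ H) (h : f u v ≠ 0) :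
    ∃ g ∈ H, (g : Ms) *ᵥ u = v := by
  obtain ⟨al, hal⟩ : ∃ al, al = f u v := ⟨_, rfl⟩
  obtain ⟨be, hbe⟩ : ∃ be, be = f u (j *ᵥ v) := ⟨_, rfl⟩
  have hD : d * (al * al) - be * be ≠ 0 := fun e => hd (be / al) (by
    field_simp [hal ▸ h]
    linear_combination -e)
  refine ⟨_, hR (v - u) (al / (d * (al * al) - be * be)) (-be / (d * (al * al) - be * be)), ?_⟩
  have e1 : f u (v - u) = al := by rw [form_sub_right, sympForm_self, sub_zero, hal]
  have e3 : f u (j *ᵥ (v - u)) = be := by rw [mulVec_sub, form_sub_right, f_vj j hjf h2, sub_zero, hbe]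
  obtain ⟨D, hDe⟩ : ∃ D, D = d * (al * al) - be * be := ⟨_, rfl⟩
  rw [← hDe] at hD ⊢
  rw [R, S_mulVec (f_vj j hjf h2 _), e1, e3,
    show d * (al / D) * al + -be / D * be = 1 by
      field_simp; linear_combination -hDe,
    show -be / D * al + al / D * be = 0 by ring,
    one_smul, zero_smul, add_zero, add_sub_cancel]

include hjj hjf hd h2 in
theorem exists_move {u v : Vs} (hR : ∀ z B C, R j d z B C ∈ H) (hu : u ≠ 0) (hv : v ≠ 0) :
    ∃ g ∈ H, (g : Ms) *ᵥ u = v := by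
  obtain ⟨w, hw1, hw2⟩ : ∃ w, f u w ≠ 0 ∧ f v w ≠ 0 := by
    obtain ⟨a, ha⟩ := exists_form_ne hu
    obtain ⟨b, hb⟩ := exists_form_ne hv
    by_cases h1 : f v a = 0
    · by_cases h3 : f u b = 0
      · exact ⟨a + b, by rwa [form_add_right, h3, add_zero], by rwa [form_add_right, h1, zero_add]⟩
      · exact ⟨b, h3, hb⟩
    · exact ⟨a, ha, h1⟩
  obtain ⟨g, hg, hgu⟩ := exists_step j d hjj hjf hd h2 hR hw1
  obtain ⟨g', hg', hgw⟩ := exists_step j d hjj hjf hd h2 hR (u := w) (v := v)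
    (by rw [sympForm_comm]; exact neg_ne_zero.mpr hw2)
  exact ⟨g' * g, H.mul_mem hg' hg, by rw [gl_mulVec, hgu, hgw]⟩

include hjj hjf hd h2 in
/-- The semilinear group is maximal. -/
theorem isMaximalIn_semilinear {N : Subgroup (GL (Fin 2 ⊕ Fin 2) F)} (hN : ∀ g, g ∈ N ↔ Semi j g) :
    Cfsg.Geo.IsMaximalIn (Cfsg.spGL 2 F) (N ⊓ Cfsg.spGL 2 F) := by
  have hjv := f_jv j hjf h2
  have hvj := f_vj j hjf h2
  refine ⟨lt_of_le_of_ne inf_le_right fun heq => ?_, fun M hNM hMS => ?_⟩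
  · obtain ⟨v, hv⟩ : ∃ v : Vs, v ≠ 0 := ⟨Pi.single (Sum.inl 0) 1, by simp⟩
    obtain ⟨x, hx⟩ := exists_form_ne hv
    obtain ⟨ε, hε, hT⟩ := (hN _).mp (heq.ge (T_mem v 1)).1
    have h4 := hT x
    rw [T_mulVec, T_mulVec, one_mul, one_mul, hjf x v, mulVec_add, mulVec_smul, smul_add, smul_smul] at h4
    have hε1 : ε = 1 := by
      rcases hε with e | e
      · exact e
      exfalso
      -- then `2 j x` lies in the line of `v`
      have h5 : (2 : F) • (j *ᵥ x) = (-f x (j *ᵥ v)) • v + (ε * f x v) • (j *ᵥ v) := by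
        rw [e] at h4 ⊢
        rw [← sub_eq_zero] at h4 ⊢
        rw [← h4]; module
      have h6 := congrArg (fun z => f z (j *ᵥ v)) h5
      simp only [form_add_left, form_smul_left, sympForm_self, hvj, hjf, hjj, form_smul_right] at h6
      refine hx ?_
      have h7 : (2 * d) * f x v = 0 := by linear_combination h6
      rw [sympForm_comm, (mul_eq_zero.mp h7).resolve_left (mul_ne_zero h2 (d_ne_zero d hd)), neg_zero]
    subst hε1
    obtain ⟨-, c2⟩ := indep_j j d hjj hd hv (a := f x (j *ᵥ v)) (b := -f x v) (by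
      rw [← sub_eq_zero] at h4; rw [← h4]; module)
    exact hx (by rw [sympForm_comm, neg_eq_zero.mp c2, neg_zero])
  by_cases hle : M ≤ N
  · exact Or.inl (le_antisymm (le_inf hle hMS) hNM)
  right
  obtain ⟨g, hgM, hgN⟩ := SetLike.not_le_iff_exists.mp hle
  have hR : ∀ z B C, R j d z B C ∈ M := fun z B C =>
    hNM ⟨(hN _).mpr (R_semi j d hjj hjf h2 z B C), R_mem j d z B C⟩
  obtain ⟨v, hne⟩ : ∃ v, ∀ a b : F,
      (g : Ms) *ᵥ (j *ᵥ v) ≠ a • ((g : Ms) *ᵥ v) + b • (j *ᵥ ((g : Ms) *ᵥ v)) := by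
    by_contra hl
    push Not at hl
    exact hgN ((hN g).mpr (semi_of_lines j d hjj hjf hd h2 hl))
  obtain ⟨e, he⟩ : ∃ e, e = (g : Ms) *ᵥ v := ⟨_, rfl⟩
  obtain ⟨b, hb⟩ : ∃ b, b = (g : Ms) *ᵥ (j *ᵥ v) := ⟨_, rfl⟩
  rw [← he, ← hb] at hne
  have he0 : e ≠ 0 := fun h0 => by
    have hv : v = 0 := by
      have h1 := congrArg (((g⁻¹ : GLs) : Ms) *ᵥ ·) (he.symm.trans h0)
      simpa [mulVec_mulVec] using h1
    exact hne 0 0 (by simp [hb, hv])
  have heb : f e b = 0 := by rw [he, hb, apply_sp (hMS hgM), hvj]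
  have hμ : f (j *ᵥ e) b ≠ 0 := by
    intro h0
    have hbe : f b e = 0 := by rw [sympForm_comm, heb, neg_zero]
    have hbj : f b (j *ᵥ e) = 0 := by rw [sympForm_comm, h0, neg_zero]
    have hli : LinearIndependent F ![b, e, j *ᵥ e] := by
      rw [show (![b, e, j *ᵥ e] : Fin 3 → Vs) = Fin.cons b ![e, j *ᵥ e] from rfl, linearIndependent_finCons]
      refine ⟨LinearIndependent.pair_iff.mpr fun s t h => indep_j j d hjj hd he0 h, fun h => ?_⟩
      rw [Matrix.range_cons, Matrix.range_cons, Matrix.range_empty, Set.union_empty, Set.singleton_union,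
        Submodule.mem_span_pair] at h
      obtain ⟨s, t, h⟩ := h
      exact hne s t h.symm
    have hgd := Forms.sympBilin_goodForm (F := F) (m := 2)
    have hle' : Submodule.span F (Set.range ![b, e, j *ᵥ e])
        ≤ Forms.perp (Forms.sympBilin 2 F) (Submodule.span F (Set.range ![b, e, j *ᵥ e])) := by
      rw [Submodule.span_le]
      rintro _ ⟨i, rfl⟩
      rw [SetLike.mem_coe, Forms.mem_perp_span]
      rintro _ ⟨k, rfl⟩
      rw [Forms.sympBilin_apply]
      fin_cases i <;> fin_cases k <;> simp [hjv, hvj, heb, hbe, hbj, h0, sympForm_self]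
    have h1 := Submodule.finrank_mono hle'
    have h3 := hgd.finrank_add_finrank_perp (Submodule.span F (Set.range ![b, e, j *ᵥ e]))
    rw [finrank_span_eq_card hli, Fintype.card_fin] at h1 h3
    rw [Module.finrank_fintype_fun_eq_card] at h3
    simp at h3
    omega
  have hP : S e (j *ᵥ e) 0 0 1 ∈ M := by
    have := hR e 0 1
    rwa [R, mul_zero] at this
  have hQ : S e b 0 0 1 ∈ M := by
    have h1 := M.mul_mem (M.mul_mem hgM (hR v 0 1)) (M.inv_mem hgM)
    rwa [R, mul_zero, conj_S (hMS hgM), ← he, ← hb] at h1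
  have hT := T_of_two_mixed (hvj e) heb hP hQ
  refine eq_spGL hMS (root_of_const h2 (neg_ne_zero.mpr (mul_ne_zero h2 hμ)) fun w hw => ?_)
  obtain ⟨h, hh, hhe⟩ := exists_move j d hjj hjf hd h2 hR he0 hw
  have h1 := M.mul_mem (M.mul_mem hh hT) (M.inv_mem hh)
  rwa [conj_T (hMS hh), hhe] at h1

/-- The normaliser of a self-adjoint quadratic field is maximal. -/
theorem isMaximalIn_field (h2 : (2 : F) ≠ 0)
    (K : Subalgebra F (Matrix (Fin 2 ⊕ Fin 2) (Fin 2 ⊕ Fin 2) F)) (hK : Cfsg.Geo.IsFieldSubalgebra 2 K)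
    (hsa : Cfsg.Geo.IsSelfAdjointFor (Cfsg.sympForm 2 F) K) :
    Cfsg.Geo.IsMaximalIn (Cfsg.spGL 2 F) (Cfsg.Geo.subalgebraNormalizer K ⊓ Cfsg.spGL 2 F) := by
  classical
  obtain ⟨j, d, hjK, hjj, hd, hspan⟩ := ExtFieldMax.SympQuadNorm.exists_root_gen h2 K hK
  have hjjv : ∀ x, j *ᵥ (j *ᵥ x) = d • x := fun x => by rw [mulVec_mulVec, hjj, smul_mulVec, one_mulVec]
  have hjf : ∀ x y, f (j *ᵥ x) y = f x (j *ᵥ y) := fun x y => hsa j hjK x y
  refine isMaximalIn_semilinear j d hjjv hjf hd h2 (fun g => ?_)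
  constructor
  · intro hg
    refine semi_of_lines j d hjjv hjf hd h2 fun w => ?_
    obtain ⟨s, t, hst⟩ := hspan _ ((hg j).mp hjK)
    refine ⟨s, t, ?_⟩
    have h1 := congrArg (fun A : Ms => A *ᵥ ((g : Ms) *ᵥ w)) hst
    simp only [add_mulVec, smul_mulVec, one_mulVec] at h1
    rw [← h1, mulVec_mulVec, mulVec_mulVec, mul_assoc, ← Units.val_mul, inv_mul_cancel, Units.val_one,
      mul_one]
  · rintro ⟨ε, hε, hg⟩ k
    have hεε : ε * ε = 1 := mul_self_eq_one_iff.mpr hε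
    have hgj : (g : Ms) * j = (ε • j) * (g : Ms) := Matrix.ext_iff_mulVec.mpr fun x => by
      rw [← mulVec_mulVec, hg, ← mulVec_mulVec, smul_mulVec]
    have hgj' : ((g⁻¹ : GLs) : Ms) * j * (g : Ms) = ε • j := by
      have h1 : j * (g : Ms) = (g : Ms) * (ε • j) := by
        rw [Matrix.mul_smul, hgj, Matrix.smul_mul, smul_smul, hεε, one_smul]
      rw [mul_assoc, h1, ← mul_assoc, ← Units.val_mul, inv_mul_cancel, Units.val_one, one_mul]
    constructor
    · intro hk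
      obtain ⟨s, t, rfl⟩ := hspan k hk
      rw [mul_add, add_mul, mul_smul_comm, mul_smul_comm, smul_mul_assoc, smul_mul_assoc, mul_one, hgj,
        mul_assoc, ← Units.val_mul, mul_inv_cancel, Units.val_one, mul_one]
      exact K.add_mem (K.smul_mem K.one_mem _) (K.smul_mem (K.smul_mem hjK _) _)
    · intro hk
      have e : ((g⁻¹ : GLs) : Ms) * ((g : Ms) * k * ((g⁻¹ : GLs) : Ms)) * (g : Ms) = k := by
        simp [mul_assoc]
      obtain ⟨s, t, hst⟩ := hspan _ hk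
      rw [← e, hst, mul_add, add_mul, mul_smul_comm, mul_smul_comm, smul_mul_assoc, smul_mul_assoc, mul_one,
        ← Units.val_mul, inv_mul_cancel, Units.val_one, hgj']
      exact K.add_mem (K.smul_mem K.one_mem _) (K.smul_mem (K.smul_mem hjK _) _)

end Cfsg.Agent.Lib.SympFourOdd.SelfAdjoint
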