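import Cfsg.Agent.Lib.SubfieldMax.SympSubfield

/-!
The subfield subgroup is maximal in the four-dimensional symplectic group of odd characteristic.
-/

set_option autoImplicit false
set_option linter.unusedSectionVars false

namespace Cfsg.Agent.Lib.SympFourOdd.Subfield

open Matrix Cfsg.Agent.Lib.Forms
open Cfsg.Agent.Lib Cfsg.Agent.Lib.SubfieldMax

variable {F : Type*} [Field F] [Finite F] {K : Subfield F} {ζ : F}
  {P : GL (Fin 2 ⊕ Fin 2) F} {M : Subgroup (GL (Fin 2 ⊕ Fin 2) F)}

local notation "Vs" => (Fin 2 ⊕ Fin 2 → F)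
local notation "Ks" => (Fin 2 ⊕ Fin 2 → K)
local notation "Ms" => Matrix (Fin 2 ⊕ Fin 2) (Fin 2 ⊕ Fin 2) F
local notation "act" g:max x:max => Matrix.mulVec (g : Matrix (Fin 2 ⊕ Fin 2) (Fin 2 ⊕ Fin 2) F) x

variable (hζ : ζ ≠ 0) (h2 : (2 : F) ≠ 0)
  (hP : ∀ u v : Fin 2 ⊕ Fin 2 → K, ph ζ (ratVec K P u) (ratVec K P v) ∈ K)
  (hHM : Cfsg.Geo.subfieldSubgroup K P ⊓ Cfsg.spGL 2 F ≤ M) (hMS : M ≤ Cfsg.spGL 2 F)

omit [Finite F] in
theorem exists_ne_zero_vec : ∃ a : Fin 2 ⊕ Fin 2 → K, a ≠ 0 :=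
  ⟨Pi.single (Sum.inl 0) 1, by simp⟩

include hζ hHM hMS in
/-- The good scalars are stable under the subfield. -/
theorem good_scale (k : K) {c : F} (hc : Good hP M c) : Good hP M ((k : F) * c) := by
  intro a b hab hab0
  rcases eq_or_ne k 0 with rfl | hk
  · rw [ZeroMemClass.coe_zero, zero_mul]
    simpa using good_coe hζ hP hHM hMS 0 a b hab hab0
  have hka : LinearIndependent K ![k • a, b] := by
    rw [LinearIndependent.pair_iff] at hab ⊢
    intro s t hst
    rw [smul_smul] at hst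
    obtain ⟨h1, h3⟩ := hab _ _ hst
    exact ⟨(mul_eq_zero.mp h1).resolve_right hk, h3⟩
  have hka0 : ratForm hP (k • a) b = 0 := by rw [map_smul, LinearMap.smul_apply, hab0, smul_zero]
  have h := hc _ b hka hka0
  have e : Ez ζ (ratVec K P (k • a)) (ratVec K P b) c = Ez ζ (ratVec K P a) (ratVec K P b) ((k : F) * c) :=
    glExt fun x => by
      rw [Ez_mulVec (ph_eq_zero_of_ratForm hP hka0), Ez_mulVec (ph_eq_zero_of_ratForm hP hab0), ratVec_smul,
        ph_smul_right]
      module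
  rwa [e] at h

include hζ h2 hHM hMS in
/-- Good scalars come from their doubles. -/
theorem good_half {c : F} (hc : Good hP M (2 * c)) : Good hP M c := by
  have h := good_scale hζ hP hHM hMS (2 : K)⁻¹ hc
  rwa [show (((2 : K)⁻¹ : K) : F) * (2 * c) = c by push_cast; rw [show ((2 : K) : F) = 2 from rfl]; field_simp] at h

include hζ in
/-- A hyperbolic pair perpendicular to a given vector. -/
theorem exists_frame {a : Ks} (ha : a ≠ 0) : ∃ b b' : Ks, LinearIndependent K ![a, b] ∧
    LinearIndependent K ![a, b'] ∧ ratForm hP a b = 0 ∧ ratForm hP a b' = 0 ∧ ratForm hP b b' = 1 := by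
  obtain ⟨b, hb0, hb⟩ := exists_perp_notMem hP hζ ![a] (Submodule.span K {a})
    (by rw [finrank_span_singleton ha]; norm_num)
  have hab : ratForm hP a b = 0 := hb0 0
  have hli := linearIndependent_two ha hb
  obtain ⟨b', hb'⟩ := exists_ratForm_eq hP hζ hli ![0, 1]
  have hab' : ratForm hP a b' = 0 := hb' 0
  have hbb' : ratForm hP b b' = 1 := hb' 1
  refine ⟨b, b', hli, linearIndependent_two ha fun h => ?_, hab, hab', hbb'⟩
  obtain ⟨k, rfl⟩ := Submodule.mem_span_singleton.mp h
  rw [map_smul, ratForm_comm hP b a, hab] at hbb'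
  simp at hbb'

include hζ h2 hHM hMS in
/-- The good scalars form a ring. -/
theorem good_mul {c d : F} (hc : Good hP M c) (hd : Good hP M d) : Good hP M (c * d) := by
  obtain ⟨a, ha⟩ := exists_ne_zero_vec (K := K)
  obtain ⟨b, b', hli, hli', hab, hab', hbb'⟩ := exists_frame hζ hP ha
  set A := ratVec K P a
  set B := ratVec K P b
  set B' := ratVec K P b'
  have hAB : ph ζ A B = 0 := ph_eq_zero_of_ratForm hP hab
  have hAB' : ph ζ A B' = 0 := ph_eq_zero_of_ratForm hP hab'
  have hBA : ph ζ B A = 0 := by rw [ph_comm, hAB, neg_zero]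
  have hB'A : ph ζ B' A = 0 := by rw [ph_comm, hAB', neg_zero]
  have hBB' : ph ζ B B' = 1 := ph_eq_one_of_ratForm hP hbb'
  have hB'B : ph ζ B' B = -1 := by rw [ph_comm, hBB']
  have hX := hc a b hli hab
  have hY := hd a b' hli' hab'
  have h1 := M.mul_mem (M.mul_mem hX hY) (M.inv_mem (M.mul_mem hY hX))
  have key : Ez ζ A B c * Ez ζ A B' d = Tz ζ A (-(2 * (c * d))) * (Ez ζ A B' d * Ez ζ A B c) := by
    refine glExt fun x => ?_
    simp only [Units.val_mul, ← mulVec_mulVec, Ez_mulVec hAB, Ez_mulVec hAB', Tz_mulVec,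
      ph_add_left, ph_add_right, ph_smul_left, ph_smul_right, ph_self, hAB, hAB', hBA, hB'A, hBB', hB'B,
      mul_zero, mul_one, add_zero, zero_add]
    module
  rw [key, mul_inv_cancel_right] at h1
  have h3 := good_scale hζ hP hHM hMS (-1) (good_of_Tz hζ hP hHM hMS ha h1)
  exact good_half hζ h2 hP hHM hMS (by simpa using h3)

include hζ h2 hHM hMS in
theorem good_all (r : ℕ) (hr : r.Prime) (hcard : Nat.card F = Nat.card K ^ r) {c : F} (hc : c ∉ K)
    (hgood : Good hP M c) (x : F) : Good hP M x := by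
  let S : Subalgebra K F :=
    { carrier := {x | Good hP M x}
      mul_mem' := fun ha hb => good_mul hζ h2 hP hHM hMS ha hb
      one_mem' := by simpa using good_coe hζ hP hHM hMS 1
      add_mem' := fun ha hb => good_add hP ha hb
      zero_mem' := by simpa using good_coe hζ hP hHM hMS 0
      algebraMap_mem' := fun a => good_coe hζ hP hHM hMS a }
  haveI : Module.Finite K F := Module.Finite.of_finite
  have hdim : Module.finrank K F = r := by
    have h := Module.natCard_eq_pow_finrank (K := K) (V := F)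
    rw [hcard] at h
    exact (Nat.pow_right_injective Finite.one_lt_card h).symm
  have h := Subalgebra.isSimpleOrder_of_finrank_prime K F (hdim ▸ hr)
  rcases h.eq_bot_or_eq_top S with e | e
  · exfalso
    have hcS : c ∈ (⊥ : Subalgebra K F) := e ▸ (hgood : c ∈ S)
    obtain ⟨a, ha⟩ := Algebra.mem_bot.mp hcS
    exact hc (ha ▸ a.2)
  · exact (e ▸ Algebra.mem_top : x ∈ S)

include hζ h2 hP hHM hMS in
theorem eq_spGL_of_good (hgood : ∀ x, Good hP M x) : M = Cfsg.spGL 2 F := by
  classical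
  have hT : ∀ b : Ks, b ≠ 0 → ∀ c, Tz ζ (ratVec K P b) c ∈ M := by
    intro b hb c
    obtain ⟨t, t', hli, hli', hbt, hbt', htt'⟩ := exists_frame hζ hP hb
    have h1 := M.mul_mem (M.mul_mem (hgood (-c / 2) b t hli hbt) (hgood 1 b t' hli' hbt'))
      (M.inv_mem (M.mul_mem (hgood 1 b t' hli' hbt') (hgood (-c / 2) b t hli hbt)))
    have hAB := ph_eq_zero_of_ratForm hP hbt
    have hAB' := ph_eq_zero_of_ratForm hP hbt'
    have hBA : ph ζ (ratVec K P t) (ratVec K P b) = 0 := by rw [ph_comm, hAB, neg_zero]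
    have hB'A : ph ζ (ratVec K P t') (ratVec K P b) = 0 := by rw [ph_comm, hAB', neg_zero]
    have hBB' := ph_eq_one_of_ratForm hP htt'
    have hB'B : ph ζ (ratVec K P t') (ratVec K P t) = -1 := by rw [ph_comm, hBB']
    have key : Ez ζ (ratVec K P b) (ratVec K P t) (-c / 2) * Ez ζ (ratVec K P b) (ratVec K P t') 1 =
        Tz ζ (ratVec K P b) c * (Ez ζ (ratVec K P b) (ratVec K P t') 1 *
          Ez ζ (ratVec K P b) (ratVec K P t) (-c / 2)) := by
      refine glExt fun x => ?_
      simp only [Units.val_mul, ← mulVec_mulVec, Ez_mulVec hAB, Ez_mulVec hAB', Tz_mulVec,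
        ph_add_left, ph_add_right, ph_smul_left, ph_smul_right, ph_self, hAB, hAB', hBA, hB'A, hBB', hB'B,
        mul_zero, mul_one, add_zero, zero_add]
      match_scalars <;> field_simp <;> ring
    rwa [key, mul_inv_cancel_right] at h1
  refine SympMax.eq_spGL hMS fun v => ?_
  set e : Fin 2 ⊕ Fin 2 → Fin 2 ⊕ Fin 2 → K := fun i => Pi.single i 1 with he
  suffices ∀ (s : Finset (Fin 2 ⊕ Fin 2)) (c : Fin 2 ⊕ Fin 2 → F),
      ∑ i ∈ s, c i • ratVec K P (e i) ∈ SympMax.root M by
    rw [eq_sum_ratVec (K := K) (P := P) v]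
    exact this _ _
  intro s
  induction s using Finset.induction_on with
  | empty =>
    intro c
    rw [Finset.sum_empty]
    exact root_of_Tz hζ fun d => by
      rw [← zero_smul F (0 : Vs), Tz_smul, mul_zero, zero_mul, Tz_zero]
      exact M.one_mem
  | insert j s hj ih =>
    intro c
    rw [Finset.sum_insert hj]
    set v' := ∑ i ∈ s, c i • ratVec K P (e i)
    have hv' : v' ∈ SympMax.root M := ih c
    set b := ratVec K P (e j) with hb
    have hej : e j ≠ 0 := by simp [he]
    by_cases h1 : ph ζ v' b = 0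
    · by_cases hex : ∃ t : Ks, ratForm hP (e j) t = 0 ∧ ph ζ v' (ratVec K P t) ≠ 0
      · obtain ⟨t, ht, htv⟩ := hex
        have hli : LinearIndependent K ![e j, t] := linearIndependent_two hej fun h => by
          obtain ⟨k, rfl⟩ := Submodule.mem_span_singleton.mp h
          exact htv (by rw [ratVec_smul, ph_smul_right, h1, mul_zero])
        have h3 := SympMax.root_map hMS (hgood (c j / ph ζ v' (ratVec K P t)) _ _ hli ht) hv'
        rw [Ez_mulVec (ph_eq_zero_of_ratForm hP ht), h1, mul_zero, zero_smul, add_zero,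
          div_mul_cancel₀ _ htv, add_comm] at h3
        exact h3
      · push Not at hex
        obtain ⟨u₀, hu₀⟩ := exists_ratForm_eq hP hζ (u := ![e j])
          (linearIndependent_unique_iff.mpr (by simpa using hej)) ![1]
        have hu₀' : ratForm hP (e j) u₀ = 1 := hu₀ 0
        have hw : v' - (- ph ζ (ratVec K P u₀) v') • b = 0 := eq_zero_of_ph_ratVec (K := K) (P := P) hζ fun u => by
          have h3 := hex (u - ratForm hP (e j) u • u₀) (by
            rw [map_sub, map_smul, hu₀', smul_eq_mul, mul_one, sub_self])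
          rw [ratVec_sub, ratVec_smul, ph_sub_right, ph_smul_right, coe_ratForm] at h3
          rw [ph_sub_right, ph_smul_right, hb, ph_comm (ratVec K P u) (ratVec K P (e j)),
            ph_comm (ratVec K P u) v', ph_comm (ratVec K P u₀) v']
          linear_combination -h3
        rw [sub_eq_zero] at hw
        rw [hw, ← add_smul]
        exact SympMax.root_smul (root_of_Tz hζ (hT _ hej)) _
    · have h3 := SympMax.root_map hMS (hT (e j) hej (c j / ph ζ v' b)) hv'
      rw [Tz_mulVec, ← hb, div_mul_cancel₀ _ h1, add_comm] at h3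
      exact h3

include hζ h2 hHM hMS in
/-- A centre in a totally isotropic rational plane. -/
theorem good_plane {a b : Ks} (hli : LinearIndependent K ![a, b]) (hab : ratForm hP a b = 0) {p q : F}
    (hz : Centre K ζ M (p • ratVec K P a + q • ratVec K P b)) : Good hP M (q * q) ∧ Good hP M (p * q) := by
  have ha : a ≠ 0 := fun e => one_ne_zero ((LinearIndependent.pair_iff.mp hli) 1 0 (by simp [e])).1
  have hb : b ∉ Submodule.span K {a} := fun h => by
    obtain ⟨k, hk⟩ := Submodule.mem_span_singleton.mp h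
    exact (LinearIndependent.pair_iff' ha).mp hli k hk
  set A := ratVec K P a with hA
  set B := ratVec K P b with hB
  have hAB : ph ζ A B = 0 := ph_eq_zero_of_ratForm hP hab
  have hBA : ph ζ B A = 0 := by rw [ph_comm, hAB, neg_zero]
  have move : ∀ k c : K, Tz ζ ((p + (k : F) * q) • A + q • B) (c : F) ∈ M := by
    intro k c
    have hli2 : LinearIndependent K ![a, b + k • a] := linearIndependent_two ha fun h => hb (by
      have := Submodule.sub_mem _ h (Submodule.smul_mem _ k (Submodule.mem_span_singleton_self a))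
      simpa using this)
    have hab2 : ratForm hP a (b + k • a) = 0 := by rw [map_add, hab, map_smul, ratForm_self, smul_zero, add_zero]
    obtain ⟨s, hs, hsi⟩ := exists_rational_map hP hζ hli hli2 (fun i j => by
      fin_cases i <;> fin_cases j <;>
        simp [ratForm_self, hab, hab2, ratForm_comm hP b a, ratForm_comm hP (b + k • a) a])
    have hsA : act s A = A := by simpa using hsi 0
    have hsB : act s B = B + (k : F) • A := by
      have h := hsi 1
      simp only [Matrix.cons_val_one, Matrix.cons_val_fin_one] at h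
      rw [h, ratVec_add, ratVec_smul]
    have h := centre_map hMS (hHM hs) hz c
    rw [mulVec_add, mulVec_smul, mulVec_smul, hsA, hsB] at h
    convert h using 2
    module
  have hplus : Tz ζ ((p + q) • A + q • B) (1 : F) ∈ M := by simpa using move 1 1
  have hminus : Tz ζ ((p - q) • A + q • B) (1 : F) ∈ M := by simpa [sub_eq_add_neg] using move (-1) 1
  have hminus' : Tz ζ ((p - q) • A + q • B) (-1 : F) ∈ M := by simpa [sub_eq_add_neg] using move (-1) (-1)
  have hzero : Tz ζ (p • A + q • B) (-2 : F) ∈ M := by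
    have h := hz (-2)
    push_cast at h
    exact h
  have e1 : Tz ζ ((p + q) • A + q • B) (1 : F) * Tz ζ ((p - q) • A + q • B) (1 : F) *
      Tz ζ (p • A + q • B) (-2 : F) = Tz ζ A (2 * (q * q)) := by
    refine glExt fun x => ?_
    simp only [Units.val_mul, ← mulVec_mulVec, Tz_mulVec, ph_add_left, ph_add_right, ph_smul_left, ph_smul_right,
      ph_self, hAB, hBA, mul_zero, add_zero]
    module
  have hq2 := good_of_Tz hζ hP hHM hMS ha (e1 ▸ M.mul_mem (M.mul_mem hplus hminus) hzero)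
  have hq : Good hP M (q * q) := good_half hζ h2 hP hHM hMS hq2
  refine ⟨hq, good_half hζ h2 hP hHM hMS (good_half hζ h2 hP hHM hMS ?_)⟩
  have e2 : Tz ζ ((p + q) • A + q • B) (1 : F) * Tz ζ ((p - q) • A + q • B) (-1 : F) *
      Ez ζ A B (-1 * (2 * (q * q))) = Tz ζ A (2 * (2 * (p * q))) := by
    refine glExt fun x => ?_
    simp only [Units.val_mul, ← mulVec_mulVec, Tz_mulVec, Ez_mulVec hAB, ph_add_left, ph_add_right, ph_smul_left,
      ph_smul_right, ph_self, hAB, hBA, mul_zero, add_zero]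
    module
  have hE : Ez ζ A B (-1 * (2 * (q * q))) ∈ M := by
    have h := good_scale hζ hP hHM hMS (-1) hq2 a b hli hab
    push_cast at h
    exact h
  exact good_of_Tz hζ hP hHM hMS ha (e2 ▸ M.mul_mem (M.mul_mem hplus hminus') hE)

include hζ h2 hHM hMS in
/-- A centre which is not rational and has a rational perpendicular gives an irrational good scalar. -/
theorem exists_good_notMem {w : Vs} (hw : Centre K ζ M w) (hirr : ¬ IsRatCentre K P w) {t : Ks} (ht : t ≠ 0)
    (htw : ph ζ (ratVec K P t) w = 0) : ∃ c, c ∉ K ∧ Good hP M c := by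
  by_contra hno
  push Not at hno
  have hGK : ∀ c, Good hP M c → c ∈ K := fun c hc => by
    by_contra h
    exact hno c h hc
  have hsq : ∀ s : Ks, ratForm hP t s = 0 → ph ζ w (ratVec K P s) * ph ζ w (ratVec K P s) ∈ K := by
    intro s hs
    by_cases hli : s ∈ Submodule.span K {t}
    · obtain ⟨k, rfl⟩ := Submodule.mem_span_singleton.mp hli
      rw [ratVec_smul, ph_smul_right, ph_comm w (ratVec K P t), htw, neg_zero, mul_zero, mul_zero]
      exact K.zero_mem
    set S := ratVec K P s with hS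
    set T := ratVec K P t with hT
    have hTS : ph ζ T S = 0 := ph_eq_zero_of_ratForm hP hs
    have hST : ph ζ S T = 0 := by rw [ph_comm, hTS, neg_zero]
    have hwT : ph ζ w T = 0 := by rw [ph_comm, htw, neg_zero]
    set κ := ph ζ w S with hκ
    have hSw : ph ζ S w = -κ := ph_comm _ _
    have e0 : act (Ez ζ T S (1 : F)) w = w + κ • T := by
      rw [Ez_mulVec hTS, hwT, ← hκ]; simp
    have hw1 := hw 1
    have hwm := hw (-1)
    push_cast at hw1 hwm
    have hX1 := M.mul_mem (M.mul_mem (Ez_rat_mem hP hHM t s) hw1) (M.inv_mem (Ez_rat_mem hP hHM t s))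
    rw [conj_Tz (Ez_mem _ _ _), e0] at hX1
    have hX := M.mul_mem hX1 hwm
    have eX : ((Tz ζ (w + κ • T) (1 : F) * Tz ζ w (-1 : F) : GL (Fin 2 ⊕ Fin 2) F) : Ms) *ᵥ S =
        (1 : F) • S + (-(κ * κ)) • T := by
      simp only [Units.val_mul, ← mulVec_mulVec, Tz_mulVec, ph_add_left, ph_add_right, ph_smul_left, ph_smul_right,
        ph_self, hwT, hST, hSw, mul_zero, add_zero]
      module
    have hz := centre_map hMS hX (centre_ratVec hP hHM s)
    rw [eX] at hz
    have hsne : s ≠ 0 := fun e => hli (by rw [e]; exact zero_mem _)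
    have hlist : LinearIndependent K ![s, t] :=
      LinearIndependent.pair_symm_iff.mp (linearIndependent_two ht hli)
    have h := hGK _ (good_plane hζ h2 hP hHM hMS hlist (by rw [ratForm_comm, hs, neg_zero]) hz).2
    simpa using h
  have hK : ∀ s s' : Ks, ratForm hP t s = 0 → ratForm hP t s' = 0 →
      ph ζ w (ratVec K P s) * ph ζ w (ratVec K P s') ∈ K := by
    intro s s' hs hs'
    have h := hsq (s + s') (by rw [map_add, hs, hs', add_zero])
    rw [ratVec_add, ph_add_right] at h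
    have h3 := K.div_mem (K.sub_mem (K.sub_mem h (hsq s hs)) (hsq s' hs')) (show (2 : F) ∈ K from ((2 : K)).2)
    convert h3 using 1
    field_simp
    ring
  obtain ⟨r₀, hr₀⟩ := exists_ratForm_eq hP hζ (u := ![t]) (linearIndependent_unique_iff.mpr (by simpa using ht)) ![-1]
  have hr₀' : ratForm hP r₀ t = 1 := by rw [ratForm_comm, show ratForm hP t r₀ = -1 from hr₀ 0, neg_neg]
  set ν := ph ζ (ratVec K P r₀) w with hν
  -- the projection to the perpendicular of `t`
  set pr : Ks → Ks := fun u => u - ratForm hP u t • r₀ with hpr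
  have hpr0 : ∀ u, ratForm hP t (pr u) = 0 := fun u => by
    rw [hpr, ratForm_comm, map_sub, map_smul, LinearMap.sub_apply, LinearMap.smul_apply, hr₀']
    simp
  by_cases hU : ∀ u : Ks, ratForm hP t u = 0 → ph ζ w (ratVec K P u) = 0
  · have e : w = ν • ratVec K P t := sub_eq_zero.mp (eq_zero_of_ph_ratVec (K := K) (P := P) hζ fun u => by
      have h1 := hU _ (hpr0 u)
      rw [hpr, ratVec_sub, ratVec_smul, ph_sub_right, ph_smul_right, coe_ratForm] at h1
      rw [ph_sub_right, ph_smul_right, ph_comm (ratVec K P u) w, hν, ph_comm (ratVec K P r₀) w]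
      linear_combination -h1)
    have h1 := hw 1
    push_cast at h1
    rw [e, Tz_smul, mul_one] at h1
    by_cases hν2 : ν * ν ∈ K
    · exact hirr ⟨ν, t, hν2, e⟩
    · exact hno _ hν2 (good_of_Tz hζ hP hHM hMS ht h1)
  push Not at hU
  obtain ⟨u₁, hu₁, hμ0⟩ := hU
  set μ := ph ζ w (ratVec K P u₁) with hμ
  have hμμ : μ * μ ∈ K := hK u₁ u₁ hu₁ hu₁
  have hratio : ∀ u : Ks, ratForm hP t u = 0 → ph ζ w (ratVec K P u) / μ ∈ K := fun u hu => by
    rw [show ph ζ w (ratVec K P u) / μ = (ph ζ w (ratVec K P u) * μ) / (μ * μ) by field_simp]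
    exact K.div_mem (hK u u₁ hu hu₁) hμμ
  let L : (Fin 2 ⊕ Fin 2 → K) →ₗ[K] K :=
    { toFun := fun u => ⟨ph ζ w (ratVec K P (pr u)) / μ, hratio _ (hpr0 u)⟩
      map_add' := fun u v => Subtype.ext (by
        show ph ζ w (ratVec K P (pr (u + v))) / μ = _ + _
        rw [show pr (u + v) = pr u + pr v by simp [hpr, add_smul]; abel, ratVec_add, ph_add_right, add_div])
      map_smul' := fun a u => Subtype.ext (by
        show ph ζ w (ratVec K P (pr (a • u))) / μ = (a : F) * _
        rw [show pr (a • u) = a • pr u by simp [hpr, smul_sub, smul_smul], ratVec_smul, ph_smul_right, mul_div_assoc]) }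
  obtain ⟨b₀, hb₀⟩ := (ratForm_good hP hζ).exists_vec L
  have hL : ∀ u, ph ζ (ratVec K P b₀) (ratVec K P u) * μ = ph ζ w (ratVec K P (pr u)) := fun u => by
    rw [← coe_ratForm hP, hb₀ u]
    show ph ζ w (ratVec K P (pr u)) / μ * μ = _
    rw [div_mul_cancel₀ _ hμ0]
  have e : w = μ • ratVec K P b₀ + ν • ratVec K P t :=
    sub_eq_zero.mp (eq_zero_of_ph_ratVec (K := K) (P := P) hζ fun u => by
      have h1 := hL u
      rw [hpr, ratVec_sub, ratVec_smul, ph_sub_right, ph_smul_right, coe_ratForm] at h1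
      rw [ph_sub_right, ph_add_right, ph_smul_right, ph_smul_right, ph_comm (ratVec K P u) w,
        ph_comm (ratVec K P u) (ratVec K P b₀), hν, ph_comm (ratVec K P r₀) w]
      linear_combination h1)
  have hb₀t : ratForm hP b₀ t = 0 := by
    apply Subtype.ext
    have h1 := hL t
    rw [show pr t = t by simp [hpr, ratForm_self], ph_comm w, htw, neg_zero] at h1
    rw [coe_ratForm]
    simpa [hμ0] using h1
  have hbu : ph ζ (ratVec K P b₀) (ratVec K P u₁) = 1 := by
    have h1 := hL u₁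
    rw [show pr u₁ = u₁ by simp [hpr, ratForm_comm hP u₁ t, hu₁], ← hμ] at h1
    exact mul_right_cancel₀ hμ0 (by rw [h1, one_mul])
  have hbt : LinearIndependent K ![b₀, t] := by
    refine linearIndependent_two (fun e0 => ?_) fun hmem => ?_
    · rw [e0, ratVec_zero, ph_zero_left] at hbu
      exact zero_ne_one hbu
    · obtain ⟨k, rfl⟩ := Submodule.mem_span_singleton.mp hmem
      have h1 : ph ζ ((k : F) • ratVec K P b₀) (ratVec K P u₁) = 0 := by
        rw [← ratVec_smul]; exact ph_eq_zero_of_ratForm hP hu₁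
      rw [ph_smul_left, hbu, mul_one] at h1
      exact ht (by rw [show k = 0 from Subtype.ext h1, zero_smul])
  rw [e] at hw
  have h := good_plane hζ h2 hP hHM hMS (LinearIndependent.pair_symm_iff.mp hbt)
    (by rw [ratForm_comm, hb₀t, neg_zero]) (by rwa [add_comm] at hw : Centre K ζ M (ν • ratVec K P t + μ • ratVec K P b₀))
  have hνμ : ν / μ ∈ K := by
    rw [show ν / μ = ν * μ / (μ * μ) by field_simp]
    exact K.div_mem (hGK _ h.2) hμμ
  refine hirr ⟨μ, b₀ + (⟨ν / μ, hνμ⟩ : K) • t, hμμ, ?_⟩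
  rw [ratVec_add, ratVec_smul, smul_add, smul_smul, e]
  simp [mul_div_cancel₀ _ hμ0]

include hζ h2 hP hHM hMS in
/-- An irrational centre without rational perpendicular gives one with a rational perpendicular. -/
theorem exists_perp_centre {w : Vs} (hw : Centre K ζ M w)
    (hfull : ∀ u : Ks, u ≠ 0 → ph ζ (ratVec K P u) w ≠ 0) :
    ∃ z, Centre K ζ M z ∧ ¬ IsRatCentre K P z ∧ ∃ t : Ks, t ≠ 0 ∧ ph ζ (ratVec K P t) z = 0 := by
  obtain ⟨π₁, hπ₁⟩ := exists_ne_zero_vec (K := K)
  obtain ⟨π₂, hπ₂⟩ := exists_ratForm_eq hP hζ (u := ![π₁])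
    (linearIndependent_unique_iff.mpr (by simpa using hπ₁)) ![-2]
  have h12 : ratForm hP π₁ π₂ = -2 := hπ₂ 0
  have h2K : (2 : K) ≠ 0 := fun e => h2 (congrArg (Subtype.val : K → F) e)
  have hliπ : LinearIndependent K ![π₁, π₂] := linearIndependent_two hπ₁ fun hmem => by
    obtain ⟨k, rfl⟩ := Submodule.mem_span_singleton.mp hmem
    rw [map_smul, ratForm_self, smul_zero, eq_comm, neg_eq_zero] at h12
    exact h2K h12
  have hperpπ : ∀ s : Ks, s ≠ 0 → (∀ i, ratForm hP (![π₁, π₂] i) s = 0) → s ∉ Submodule.span K {π₁, π₂} := by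
    intro s hs hs0 hmem
    obtain ⟨x, y, rfl⟩ := Submodule.mem_span_pair.mp hmem
    have i1 : ratForm hP π₁ (x • π₁ + y • π₂) = 0 := hs0 0
    have i2 : ratForm hP π₂ (x • π₁ + y • π₂) = 0 := hs0 1
    rw [map_add, map_smul, map_smul, ratForm_self, h12] at i1
    rw [map_add, map_smul, map_smul, ratForm_self, ratForm_comm hP π₂ π₁, h12] at i2
    simp [h2K] at i1 i2
    exact hs (by rw [i1, i2]; simp)
  set p₁ := ratVec K P π₁ with hp₁
  set p₂ := ratVec K P π₂ with hp₂
  have hp12 : ph ζ p₁ p₂ = -2 := by rw [hp₁, hp₂, ← coe_ratForm hP, h12]; simp; rfl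
  let L : Vs →ₗ[F] Vs :=
    { toFun := fun x => x + ph ζ x p₂ • p₁ - ph ζ x p₁ • p₂
      map_add' := fun x y => by simp only [ph_add_left, add_smul]; abel
      map_smul' := fun a x => by simp only [ph_smul_left, mul_smul, smul_add, smul_sub, RingHom.id_apply] }
  have hpres : ∀ x y, Cfsg.sympForm 2 F (LinearMap.toMatrix' L *ᵥ x) (LinearMap.toMatrix' L *ᵥ y)
      = Cfsg.sympForm 2 F x y := by
    intro x y
    rw [LinearMap.toMatrix'_mulVec, LinearMap.toMatrix'_mulVec]
    apply mul_left_cancel₀ hζ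
    show ph ζ (x + ph ζ x p₂ • p₁ - ph ζ x p₁ • p₂) (y + ph ζ y p₂ • p₁ - ph ζ y p₁ • p₂) = ph ζ x y
    simp only [ph_add_left, ph_add_right, ph_sub_left, ph_sub_right, ph_smul_left, ph_smul_right, ph_self,
      ph_comm p₁ y, ph_comm p₂ y, ph_comm p₂ p₁, hp12]
    ring
  set h : GL (Fin 2 ⊕ Fin 2) F := (Submonoid.subtype (Matrix.symplecticGroup (Fin 2) F)).toHomUnits
    ⟨_, mem_symplecticGroup_iff_preserves.mpr hpres⟩
  have hh : ∀ x, act h x = x + ph ζ x p₂ • p₁ - ph ζ x p₁ • p₂ := fun x => LinearMap.toMatrix'_mulVec L x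
  have hhH : h ∈ Cfsg.Geo.subfieldSubgroup K P ⊓ Cfsg.spGL 2 F := by
    refine ⟨mem_subfield_of_maps one_ne_zero fun u => ⟨u + ratForm hP u π₂ • π₁ - ratForm hP u π₁ • π₂, ?_⟩, hpres⟩
    rw [hh, one_smul, ratVec_sub, ratVec_add, ratVec_smul, ratVec_smul]
    rfl
  have hw1 := hw 1
  have hwm := hw (-1)
  push_cast at hw1 hwm
  have hX1 := M.mul_mem (M.mul_mem (hHM hhH) hw1) (M.inv_mem (hHM hhH))
  rw [conj_Tz hhH.2] at hX1
  have hX := M.mul_mem hX1 hwm
  have hwhw : ph ζ w (act h w) = 0 := by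
    rw [hh, ph_sub_right, ph_add_right, ph_smul_right, ph_smul_right, ph_self]; ring
  -- the new centre attached to `s`
  have key : ∀ s : Ks, ratForm hP π₁ s = 0 → ratForm hP π₂ s = 0 → Centre K ζ M
      (ratVec K P s + ph ζ (ratVec K P s) w • (ph ζ w p₂ • p₁ - ph ζ w p₁ • p₂)) := by
    intro s h1 h2
    have hs1 : ph ζ (ratVec K P s) p₁ = 0 := by rw [ph_comm, hp₁, ph_eq_zero_of_ratForm hP h1, neg_zero]
    have hs2 : ph ζ (ratVec K P s) p₂ = 0 := by rw [ph_comm, hp₂, ph_eq_zero_of_ratForm hP h2, neg_zero]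
    have e : act (Tz ζ (act h w) (1 : F) * Tz ζ w (-1 : F)) (ratVec K P s)
        = ratVec K P s + ph ζ (ratVec K P s) w • (ph ζ w p₂ • p₁ - ph ζ w p₁ • p₂) := by
      have hσ : ph ζ (ratVec K P s) (act h w) = ph ζ (ratVec K P s) w := by
        rw [hh, ph_sub_right, ph_add_right, ph_smul_right, ph_smul_right, hs1, hs2]; simp
      rw [← mulVec_mulVec, Tz_mulVec, Tz_mulVec]
      simp only [ph_add_left, ph_smul_left, hwhw, hσ, mul_zero, add_zero]
      rw [hh]
      module
    have h3 := centre_map hMS hX (centre_ratVec hP hHM s)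
    rw [Units.val_mul, e] at h3
    exact h3
  obtain ⟨s₁, hs₁0, hs₁⟩ := exists_perp_notMem hP hζ ![π₁, π₂] (⊥ : Submodule K Ks)
    (by rw [finrank_bot]; omega)
  have hs₁ne : s₁ ≠ 0 := fun e => hs₁ (e ▸ zero_mem _)
  obtain ⟨s₂, hs₂0, hs₂⟩ := exists_perp_notMem hP hζ ![π₁, π₂] (Submodule.span K {s₁})
    (by rw [finrank_span_singleton hs₁ne]; omega)
  have hs₂ne : s₂ ≠ 0 := fun e => hs₂ (e ▸ zero_mem _)
  by_contra hno
  push Not at hno
  have hratio : ∀ s : Ks, (∀ i, ratForm hP (![π₁, π₂] i) s = 0) → s ∉ Submodule.span K {π₁, π₂} →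
      ph ζ (ratVec K P s) w * ph ζ w p₂ ∈ K := by
    intro s hs0 hs
    have hs1 : ratForm hP π₁ s = 0 := hs0 0
    have hs2 : ratForm hP π₂ s = 0 := hs0 1
    set z := ratVec K P s + ph ζ (ratVec K P s) w • (ph ζ w p₂ • p₁ - ph ζ w p₁ • p₂) with hz
    have htz : ph ζ (ratVec K P s) z = 0 := by
      rw [hz, hp₁, hp₂, ph_add_right, ph_smul_right, ph_sub_right, ph_smul_right, ph_smul_right, ph_self,
        ph_comm (ratVec K P s) (ratVec K P π₁), ph_eq_zero_of_ratForm hP hs1,
        ph_comm (ratVec K P s) (ratVec K P π₂), ph_eq_zero_of_ratForm hP hs2]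
      simp
    obtain ⟨l, b, -, hlb⟩ : IsRatCentre K P z := by
      by_contra hirr
      exact hno z (key s hs1 hs2) hirr s (fun e => hs (by rw [e]; exact zero_mem _)) htz
    have hli3 := linearIndependent_three hliπ hs
    obtain ⟨r, hr⟩ := exists_ratForm_eq hP hζ hli3 ![1, 0, 0]
    obtain ⟨r', hr'⟩ := exists_ratForm_eq hP hζ hli3 ![0, 1, 0]
    have k0 : ratForm hP s r = 1 := hr 0
    have k1 : ratForm hP π₁ r = 0 := hr 1
    have k2 : ratForm hP π₂ r = 0 := hr 2
    have k0' : ratForm hP s r' = 0 := hr' 0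
    have k1' : ratForm hP π₁ r' = 1 := hr' 1
    have k2' : ratForm hP π₂ r' = 0 := hr' 2
    have h1 := congrArg (fun x => ph ζ x (ratVec K P r)) hlb
    rw [hz, hp₁, hp₂] at h1
    simp only [ph_add_left, ph_sub_left, ph_smul_left,
      ph_eq_one_of_ratForm hP k0, ph_eq_zero_of_ratForm hP k1,
      ph_eq_zero_of_ratForm hP k2, mul_zero, sub_zero, add_zero] at h1
    have hl : l ∈ K := by
      have : l = (ph ζ (ratVec K P b) (ratVec K P r))⁻¹ := eq_inv_of_mul_eq_one_left h1.symm
      rw [this]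
      exact K.inv_mem (hP b r)
    have h2 := congrArg (fun x => ph ζ x (ratVec K P r')) hlb
    rw [hz, hp₁, hp₂] at h2
    simp only [ph_add_left, ph_sub_left, ph_smul_left,
      ph_eq_zero_of_ratForm hP k0', ph_eq_one_of_ratForm hP k1',
      ph_eq_zero_of_ratForm hP k2', mul_zero, mul_one, sub_zero, zero_add] at h2
    rw [hp₂, h2]
    exact K.mul_mem hl (hP b r')
  have hμ2 : ph ζ w p₂ ≠ 0 := fun e => by
    refine hfull π₂ (fun e0 => ?_) (by rw [← hp₂, ph_comm, e, neg_zero])
    rw [LinearIndependent.pair_iff] at hliπ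
    exact one_ne_zero (hliπ 0 1 (by simp [e0])).2
  have h1 := hratio s₁ hs₁0 (hperpπ s₁ hs₁ne hs₁0)
  have h3 := hratio s₂ hs₂0 (hperpπ s₂ hs₂ne hs₂0)
  have hσ2 : ph ζ (ratVec K P s₂) w ≠ 0 := hfull s₂ hs₂ne
  set k : K := ⟨ph ζ (ratVec K P s₁) w / ph ζ (ratVec K P s₂) w, by
    rw [← mul_div_mul_right _ _ hμ2]; exact K.div_mem h1 h3⟩ with hk
  have hne : s₁ - k • s₂ ≠ 0 := fun e => by
    rw [sub_eq_zero] at e
    have hk0 : k ≠ 0 := fun e0 => hs₁ne (by rw [e, e0, zero_smul])
    exact hs₂ (Submodule.mem_span_singleton.mpr ⟨k⁻¹, by rw [e, inv_smul_smul₀ hk0]⟩)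
  refine hfull _ hne ?_
  rw [ratVec_sub, ratVec_smul, ph_sub_left, ph_smul_left, hk, div_mul_cancel₀ _ hσ2, sub_self]

include hζ h2 hP in
/-- The subfield subgroup is maximal. -/
theorem isMaximalIn_subfield_four (r : ℕ) (hr : r.Prime) (hcard : Nat.card F = Nat.card K ^ r) :
    Cfsg.Geo.IsMaximalIn (Cfsg.spGL 2 F) (Cfsg.Geo.subfieldSubgroup K P ⊓ Cfsg.spGL 2 F) := by
  refine ⟨lt_of_le_of_ne inf_le_right fun heq => ?_, fun M hHM hMS => ?_⟩
  · obtain ⟨c, hc⟩ : ∃ c, c ∉ K := by
      by_contra hall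
      push Not at hall
      have e : Nat.card K = Nat.card F := Nat.card_congr (Equiv.subtypeUnivEquiv hall)
      rw [e] at hcard
      have h1 : (1 : ℕ) < Nat.card F := Finite.one_lt_card
      have h2 := hcard.symm.trans (pow_one _).symm
      exact hr.one_lt.ne' (Nat.pow_right_injective h1 h2)
    obtain ⟨b, hb⟩ := exists_ne_zero_vec (K := K)
    obtain ⟨x, hx⟩ := exists_ratForm_eq hP hζ (u := ![b]) (linearIndependent_unique_iff.mpr (by simpa using hb)) ![-1]
    have hxb : ratForm hP x b = 1 := by rw [ratForm_comm, show ratForm hP b x = -1 from hx 0, neg_neg]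
    obtain ⟨l, hl0, hl⟩ := exists_scale_of_mem (K := K) (P := P) (heq.ge (Tz_mem (ζ := ζ) (ratVec K P b) c)).1
    obtain ⟨v₁, hv₁⟩ := hl b
    rw [Tz_mulVec, ph_self, mul_zero, zero_smul, add_zero] at hv₁
    obtain ⟨v₂, hv₂⟩ := hl x
    rw [Tz_mulVec, ph_eq_one_of_ratForm hP hxb, mul_one] at hv₂
    obtain ⟨r₀, hr₀⟩ := exists_ratForm_eq hP hζ (u := ![b]) (linearIndependent_unique_iff.mpr (by simpa using hb)) ![1]
    have hbr : ph ζ (ratVec K P b) (ratVec K P r₀) = 1 := ph_eq_one_of_ratForm hP (hr₀ 0)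
    have h1 := congrArg (fun y => ph ζ y (ratVec K P r₀)) hv₁
    simp only [hbr, ph_smul_left] at h1
    have hlK : l ∈ K := by
      rw [eq_inv_of_mul_eq_one_left h1.symm]
      exact K.inv_mem (hP v₁ r₀)
    have h2 := congrArg (fun y => ph ζ y (ratVec K P r₀)) hv₂
    simp only [ph_add_left, ph_smul_left, hbr, mul_one] at h2
    apply hc
    rw [show c = l * ph ζ (ratVec K P v₂) (ratVec K P r₀) - ph ζ (ratVec K P x) (ratVec K P r₀) by
      linear_combination h2]
    exact K.sub_mem (K.mul_mem hlK (hP v₂ r₀)) (hP x r₀)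
  by_cases hM : M ≤ Cfsg.Geo.subfieldSubgroup K P
  · exact Or.inl (le_antisymm (le_inf hM hMS) hHM)
  right
  obtain ⟨g, hgM, hg⟩ := SetLike.not_le_iff_exists.mp hM
  obtain ⟨u, hu⟩ : ∃ u : Ks, ¬ IsRatCentre K P (act g (ratVec K P u)) := by
    by_contra hall
    push Not at hall
    choose l v hl2 hlv using hall
    have hsame : ∀ u u' : Ks, ratForm hP u u' ≠ 0 → l u / l u' ∈ K ∧ l u ≠ 0 ∧ l u' ≠ 0 := by
      intro u u' hne
      have h1 : ph ζ (ratVec K P u) (ratVec K P u') ≠ 0 := fun e => hne (Subtype.ext (by rw [coe_ratForm, e]; rfl))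
      rw [← ph_apply_sp (hMS hgM), hlv, hlv, ph_smul_left, ph_smul_right] at h1
      have hl0 : l u ≠ 0 := left_ne_zero_of_mul h1
      have hl0' : l u' ≠ 0 := left_ne_zero_of_mul (right_ne_zero_of_mul h1)
      refine ⟨?_, hl0, hl0'⟩
      have h2 : ph ζ (ratVec K P u) (ratVec K P u') ∈ K := hP u u'
      rw [← ph_apply_sp (hMS hgM), hlv, hlv, ph_smul_left, ph_smul_right, ← mul_assoc] at h2
      have h3 : l u * l u' ∈ K := by
        have h4 := K.div_mem h2 (hP (v u) (v u'))
        rwa [mul_div_cancel_right₀ _ (right_ne_zero_of_mul (right_ne_zero_of_mul h1))] at h4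
      rw [show l u / l u' = l u * l u' / (l u' * l u') by field_simp]
      exact K.div_mem h3 (hl2 u')
    obtain ⟨e₀, he₀⟩ := exists_ne_zero_vec (K := K)
    have hall : ∀ u : Ks, u ≠ 0 → l u / l e₀ ∈ K ∧ l u ≠ 0 ∧ l e₀ ≠ 0 := by
      intro u hu
      obtain ⟨r₁, hr₁⟩ := exists_ratForm_eq hP hζ (u := ![u]) (linearIndependent_unique_iff.mpr (by simpa using hu)) ![1]
      obtain ⟨r₂, hr₂⟩ := exists_ratForm_eq hP hζ (u := ![e₀]) (linearIndependent_unique_iff.mpr (by simpa using he₀)) ![1]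
      obtain ⟨x, hx1, hx2⟩ : ∃ x, ratForm hP u x ≠ 0 ∧ ratForm hP e₀ x ≠ 0 := by
        have hu1 : ratForm hP u r₁ ≠ 0 := by rw [show ratForm hP u r₁ = 1 from hr₁ 0]; exact one_ne_zero
        have he1 : ratForm hP e₀ r₂ ≠ 0 := by rw [show ratForm hP e₀ r₂ = 1 from hr₂ 0]; exact one_ne_zero
        by_cases h1 : ratForm hP e₀ r₁ = 0
        · by_cases h2 : ratForm hP u r₂ = 0
          · exact ⟨r₁ + r₂, by rwa [map_add, h2, add_zero], by rwa [map_add, h1, zero_add]⟩
          · exact ⟨r₂, h2, he1⟩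
        · exact ⟨r₁, hu1, h1⟩
      obtain ⟨a1, a2, a3⟩ := hsame u x hx1
      obtain ⟨b1, b2, -⟩ := hsame e₀ x hx2
      refine ⟨?_, a2, b2⟩
      rw [show l u / l e₀ = (l u / l x) / (l e₀ / l x) by field_simp]
      exact K.div_mem a1 b1
    refine hg (mem_subfield_of_maps (hall e₀ he₀).2.1 fun u => ?_)
    by_cases hu : u = 0
    · exact ⟨0, by simp [hu, ratVec_zero]⟩
    · refine ⟨(⟨l u / l e₀, (hall u hu).1⟩ : K) • v u, ?_⟩
      rw [hlv, ratVec_smul, smul_smul, mul_div_cancel₀ _ (hall u hu).2.2]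
  have hwc : Centre K ζ M (act g (ratVec K P u)) := centre_map hMS hgM (centre_ratVec hP hHM u)
  obtain ⟨z, hz, hzirr, t, ht, htz⟩ : ∃ z, Centre K ζ M z ∧ ¬ IsRatCentre K P z ∧
      ∃ t : Ks, t ≠ 0 ∧ ph ζ (ratVec K P t) z = 0 := by
    by_cases hperp : ∃ t : Ks, t ≠ 0 ∧ ph ζ (ratVec K P t) (act g (ratVec K P u)) = 0
    · exact ⟨_, hwc, hu, hperp⟩
    · push Not at hperp
      exact exists_perp_centre hζ h2 hP hHM hMS hwc hperp
  obtain ⟨c, hc, hgood⟩ := exists_good_notMem hζ h2 hP hHM hMS hz hzirr ht htz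
  exact eq_spGL_of_good hζ h2 hP hHM hMS (good_all hζ h2 hP hHM hMS r hr hcard hc hgood)

end Cfsg.Agent.Lib.SympFourOdd.Subfield
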