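import Cfsg.Agent.Lib.SympFourOdd.Common
import Cfsg.Agent.Lib.ExtFieldMax.SympQuadNormalizer

/-!
The semilinear unitary group over a quadratic extension is maximal in the four-dimensional symplectic
group, for odd fields with at least five elements.
-/

set_option autoImplicit false
set_option linter.unusedSectionVars false

namespace Cfsg.Agent.Lib.SympFourOdd.Unitary

open Matrix
open Cfsg.Agent.Lib Cfsg.Agent.Lib.Forms Cfsg.Agent.Lib.SympMax
open Cfsg.Agent.Lib.ExtFieldMax.SympQuad (gl_ext gl_mulVec T_add T_comm Semi quad_indep d_ne_zero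
  norm_ne_zero R R_semi R_mem R_mulVec f_jj f_jx_sym norm2 norm2_apply norm2_add)

variable {F : Type*} [Field F] [Finite F]

local notation "Vs" => (Fin 2 ⊕ Fin 2 → F)
local notation "f" => Cfsg.sympForm 2 F
local notation "GLs" => GL (Fin 2 ⊕ Fin 2) F
local notation "Ms" => Matrix (Fin 2 ⊕ Fin 2) (Fin 2 ⊕ Fin 2) F

variable (j : Matrix (Fin 2 ⊕ Fin 2) (Fin 2 ⊕ Fin 2) F) (d : F)

/-- An isotropic pair with inner product one. -/
structure Std (v w : Fin 2 ⊕ Fin 2 → F) : Prop where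
  nv : Cfsg.sympForm 2 F v (j *ᵥ v) = 0
  nw : Cfsg.sympForm 2 F w (j *ᵥ w) = 0
  one : Cfsg.sympForm 2 F v w = 1
  zero : Cfsg.sympForm 2 F v (j *ᵥ w) = 0

variable (hjj : ∀ x : Fin 2 ⊕ Fin 2 → F, j *ᵥ (j *ᵥ x) = d • x)
  (hjf : ∀ x y : Fin 2 ⊕ Fin 2 → F,
    Cfsg.sympForm 2 F (j *ᵥ x) y = -Cfsg.sympForm 2 F x (j *ᵥ y))
  (hd : ∀ s : F, s * s ≠ d) (h2 : (2 : F) ≠ 0) (h5 : 5 ≤ Nat.card F)

include hjj hd in
theorem indep_j {v : Vs} (hv : v ≠ 0) {a b : F} (h : a • v + b • (j *ᵥ v) = 0) : a = 0 ∧ b = 0 := by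
  by_contra hne
  have hN := norm_ne_zero d hd (a := a) (b := b) (by tauto)
  have e1 := congrArg (fun z => a • z - b • (j *ᵥ z)) h
  simp only [mulVec_add, mulVec_smul, hjj, mulVec_zero, smul_zero, sub_zero] at e1
  have e2 : (a * a - d * (b * b)) • v = 0 := by rw [← e1]; module
  exact hv ((smul_eq_zero.mp e2).resolve_left hN)

include hjj hjf hd h2 in
/-- Every non-zero isotropic vector has a partner. -/
theorem exists_std {v : Vs} (hv : v ≠ 0) (hnv : f v (j *ᵥ v) = 0) : ∃ w, Std j v w := by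
  classical
  have hd0 := d_ne_zero d hd
  obtain ⟨x, hx1, hx2⟩ : ∃ x, f v x = 1 ∧ f v (j *ᵥ x) = 0 := by
    let φ : Vs →ₗ[F] F × F := LinearMap.prod (sympBilin 2 F v) ((sympBilin 2 F v).comp (Matrix.mulVecLin j))
    by_contra hno
    push Not at hno
    -- some combination of `v` and `j v` would be in the radical
    obtain ⟨a, ha⟩ := exists_form_ne hv
    by_cases hb : f v (j *ᵥ a) = 0
    · exact hno ((f v a)⁻¹ • a) (by rw [form_smul_right, inv_mul_cancel₀ ha])
        (by rw [mulVec_smul, form_smul_right, hb, mul_zero])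
    · obtain ⟨p, hp⟩ : ∃ p, p = f v a := ⟨_, rfl⟩
      obtain ⟨q, hq⟩ : ∃ q, q = f v (j *ᵥ a) := ⟨_, rfl⟩
      have hN := norm_ne_zero d hd (a := q) (b := p) (Or.inl (hq ▸ hb))
      obtain ⟨D, hDe⟩ : ∃ D, D = q * q - d * (p * p) := ⟨_, rfl⟩
      rw [← hDe] at hN
      refine hno ((-(d * p) / D) • a + (q / D) • (j *ᵥ a)) ?_ ?_
      · rw [form_add_right, form_smul_right, form_smul_right, ← hp, ← hq]
        field_simp
        linear_combination -hDe
      · rw [mulVec_add, mulVec_smul, mulVec_smul, hjj, form_add_right, form_smul_right, form_smul_right,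
          form_smul_right, ← hp, ← hq]
        field_simp
        ring
  obtain ⟨t, ht⟩ : ∃ t, t = f x (j *ᵥ x) / (2 * d) := ⟨_, rfl⟩
  have hxv : f x v = -1 := by rw [sympForm_comm, hx1]
  refine ⟨x + t • (j *ᵥ v), hnv, ?_, ?_, ?_⟩
  · rw [norm2_add j hjf, mulVec_smul, hjj, form_smul_right, form_smul_right, form_smul_left, form_smul_right,
      form_smul_right, hxv, sympForm_comm (j *ᵥ v) v, hnv, ht]
    field_simp
    ring
  · rw [form_add_right, form_smul_right, hnv, hx1]; ring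
  · rw [mulVec_add, mulVec_smul, hjj, form_add_right, form_smul_right, form_smul_right, sympForm_self, hx2]; ring

include hjj hjf hd h2 in
theorem exists_pair : ∃ v w, Std j v w := by
  obtain ⟨v, hv, -, hvQ⟩ := FormMax.OrthSL.exists_zero_ker h2
    (0 : Vs →ₗ[F] (Fin 0 → F)) (norm2 j) (by simp)
  rw [norm2_apply] at hvQ
  exact ⟨v, exists_std j d hjj hjf hd h2 hv hvQ⟩

variable {v w : Fin 2 ⊕ Fin 2 → F} (hs : Std j v w)

include hjj hjf hd hs in
/-- Coordinates. -/
theorem expand (y : Vs) :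
    y = f y w • v + (-f y (j *ᵥ w) / d) • (j *ᵥ v) + f v y • w + (f v (j *ᵥ y) / d) • (j *ᵥ w) := by
  have hd0 := d_ne_zero d hd
  obtain ⟨h1, h3, h4, h5⟩ := hs
  have vals : f v (j *ᵥ v) = 0 ∧ f (j *ᵥ v) w = 0 ∧ f (j *ᵥ v) (j *ᵥ w) = -d ∧ f (j *ᵥ w) (j *ᵥ v) = d ∧
      f w v = -1 ∧ f (j *ᵥ w) v = 0 ∧ f w (j *ᵥ v) = 0 ∧ f (j *ᵥ v) v = 0 ∧ f (j *ᵥ w) w = 0 := by
    refine ⟨h1, ?_, ?_, ?_, ?_, ?_, ?_, ?_, ?_⟩
    · rw [hjf, h5, neg_zero]
    · rw [f_jj j d hjj hjf, h4, mul_one]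
    · rw [f_jj j d hjj hjf, sympForm_comm, h4]; ring
    · rw [sympForm_comm, h4]
    · rw [sympForm_comm, h5, neg_zero]
    · rw [f_jx_sym j hjf, h5]
    · rw [sympForm_comm, h1, neg_zero]
    · rw [sympForm_comm, h3, neg_zero]
  obtain ⟨-, a1, a2, a3, a4, a5, a6, a7, a8⟩ := vals
  obtain ⟨A, hA⟩ : ∃ A, A = f y w • v + (-f y (j *ᵥ w) / d) • (j *ᵥ v) + f v y • w +
      (f v (j *ᵥ y) / d) • (j *ᵥ w) := ⟨_, rfl⟩
  rw [← hA]
  by_contra hne
  obtain ⟨z, hz⟩ := exists_form_ne (sub_ne_zero.mpr hne)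
  refine hz ?_
  -- the difference is orthogonal to a basis
  have hperp : ∀ i : Fin 4, f (y - A) (![v, j *ᵥ v, w, j *ᵥ w] i) = 0 := by
    intro i
    rw [ExtFieldMax.SympQuad.form_sub_left', hA]
    fin_cases i
    · show f y v - f _ v = 0
      simp only [form_add_left, form_smul_left, sympForm_self, a4, a5, a7, sympForm_comm y v]
      ring
    · show f y (j *ᵥ v) - f _ (j *ᵥ v) = 0
      simp only [form_add_left, form_smul_left, sympForm_self, h1, a3, a6, f_jx_sym j hjf y v]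
      field_simp
      ring
    · show f y w - f _ w = 0
      simp only [form_add_left, form_smul_left, sympForm_self, h4, a1, a8]
      ring
    · show f y (j *ᵥ w) - f _ (j *ᵥ w) = 0
      simp only [form_add_left, form_smul_left, sympForm_self, h5, a2, h3]
      field_simp
      ring
  have hli : LinearIndependent F ![v, j *ᵥ v, w, j *ᵥ w] := by
    rw [Fintype.linearIndependent_iff]
    intro g hg i
    simp only [Fin.sum_univ_four] at hg
    have e0 := congrArg (fun z => f z w) hg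
    have e1 := congrArg (fun z => f z (j *ᵥ w)) hg
    have e2 := congrArg (fun z => f z v) hg
    have e3 := congrArg (fun z => f z (j *ᵥ v)) hg
    simp [form_add_left, form_smul_left, sympForm_self, h1, h3, h4, h5, a1, a2, a3, a4, a5, a6, a7, a8, hd0,
      zero_form] at e0 e1 e2 e3
    fin_cases i <;> assumption
  have htop := hli.span_eq_top_of_card_eq_finrank (by simp)
  have hmem : z ∈ Submodule.span F (Set.range ![v, j *ᵥ v, w, j *ᵥ w]) := htop ▸ Submodule.mem_top
  obtain ⟨c, rfl⟩ := (Submodule.mem_span_range_iff_exists_fun F).mp hmem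
  rw [← sympBilin_apply, map_sum]
  refine Finset.sum_eq_zero fun i _ => ?_
  rw [map_smul, sympBilin_apply, hperp, smul_zero]
where
  zero_form (x : Vs) : f 0 x = 0 := by
    simp only [← sympBilin_apply, map_zero, LinearMap.zero_apply]

include hs in
theorem Std.ne_zero : v ≠ 0 := fun e => by
  have h := hs.one
  rw [e, expand.zero_form] at h
  exact zero_ne_one h

include hjf in
theorem Std.symm' (hs : Std j v w) : Std j w (-v) where
  nv := hs.nw
  nw := by rw [mulVec_neg, ← neg_one_smul F v, ← neg_one_smul F (j *ᵥ v), form_smul_left, form_smul_right, hs.nv]; ring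
  one := by rw [← neg_one_smul F v, form_smul_right, sympForm_comm, hs.one]; ring
  zero := by rw [mulVec_neg, ← neg_one_smul F (j *ᵥ v), form_smul_right, f_jx_sym j hjf, hs.zero, mul_zero]

include hjj hd hs in
theorem Std.indep : ∀ a b : F, w ≠ a • v + b • (j *ᵥ v) := fun a b e => by
  have h := hs.one
  rw [e, form_add_right, form_smul_right, form_smul_right, sympForm_self, hs.nv] at h
  simp at h

include hjj hjf hd h2 hs in
/-- An element mapping isotropic lines to lines is semilinear. -/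
theorem semi_of_lines {g : GLs} (hg : g ∈ Cfsg.spGL 2 F)
    (hl : ∀ u, u ≠ 0 → f u (j *ᵥ u) = 0 → ∃ a b : F,
      (g : Ms) *ᵥ (j *ᵥ u) = a • ((g : Ms) *ᵥ u) + b • (j *ᵥ ((g : Ms) *ᵥ u))) :
    Semi j g := by
  have hd0 := d_ne_zero d hd
  have hinj : ∀ {x y : Vs}, (g : Ms) *ᵥ x = (g : Ms) *ᵥ y → x = y := fun {x y} h0 => by
    have h1 := congrArg (((g⁻¹ : GLs) : Ms) *ᵥ ·) h0
    simpa [mulVec_mulVec] using h1
  have hv0 : v ≠ 0 := hs.ne_zero j
  have hw0 : w ≠ 0 := (hs.symm' j hjf).ne_zero j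
  have hind := hs.indep j d hjj hd
  have hs0 : v + w ≠ 0 := fun e => hind (-1) 0 (by
    rw [eq_neg_of_add_eq_zero_right e, zero_smul, add_zero, neg_one_smul])
  have hsum : f (v + w) (j *ᵥ (v + w)) = 0 := by rw [norm2_add j hjf, hs.nv, hs.nw, hs.zero]; ring
  obtain ⟨A, B, hAB⟩ := hl v hv0 hs.nv
  obtain ⟨A', B', hAB'⟩ := hl w hw0 hs.nw
  obtain ⟨A'', B'', hAB''⟩ := hl _ hs0 hsum
  have hB : B ≠ 0 := by
    intro h0
    rw [h0, zero_smul, add_zero, ← mulVec_smul] at hAB
    exact one_ne_zero (indep_j j d hjj hd hv0 (a := -A) (b := 1) (by rw [hinj hAB]; module)).2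
  have hgv0 : (g : Ms) *ᵥ v ≠ 0 := fun h0 => hv0 (hinj (by rw [h0, mulVec_zero]))
  have hind' : ∀ a b : F, (g : Ms) *ᵥ w ≠ a • ((g : Ms) *ᵥ v) + b • (j *ᵥ ((g : Ms) *ᵥ v)) := by
    intro a b e
    refine hind (a - b / B * A) (b / B) (hinj ?_)
    rw [mulVec_add, mulVec_smul, mulVec_smul, hAB, e, smul_add, smul_smul, smul_smul, div_mul_cancel₀ _ hB]
    module
  obtain ⟨hA', hB'⟩ : A' = A ∧ B' = B := by
    rw [mulVec_add, mulVec_add, mulVec_add, mulVec_add, hAB, hAB'] at hAB''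
    obtain ⟨e1, e3, e4, e5⟩ := quad_indep j d hjj hd hgv0 hind'
      (a := A - A'') (b := B - B'') (a' := A' - A'') (b' := B' - B'')
      (by rw [← sub_eq_zero] at hAB''; rw [← hAB'']; module)
    exact ⟨(sub_eq_zero.mp e4).trans (sub_eq_zero.mp e1).symm, (sub_eq_zero.mp e5).trans (sub_eq_zero.mp e3).symm⟩
  rw [hA', hB'] at hAB'
  obtain ⟨p, hp⟩ : ∃ p, p = f ((g : Ms) *ᵥ v) (j *ᵥ ((g : Ms) *ᵥ w)) := ⟨_, rfl⟩
  have hjp : f (j *ᵥ ((g : Ms) *ᵥ v)) ((g : Ms) *ᵥ w) = -p := by rw [hjf, hp]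
  have hgvw : f ((g : Ms) *ᵥ v) ((g : Ms) *ᵥ w) = 1 := by rw [apply_sp hg, hs.one]
  have k1 : A + B * p = 0 := by
    have h := apply_sp hg v (j *ᵥ w)
    rw [hAB', hs.zero, form_add_right, form_smul_right, form_smul_right, hgvw, ← hp] at h
    linear_combination h
  have k2 : A - B * p = 0 := by
    have h := apply_sp hg (j *ᵥ v) w
    rw [hAB, hjf v w, hs.zero, form_add_left, form_smul_left, form_smul_left, hgvw, hjp] at h
    linear_combination h
  have hA0 : A = 0 := (mul_eq_zero.mp (show (2 : F) * A = 0 by linear_combination k1 + k2)).resolve_left h2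
  have hBB : B * B = 1 := by
    have h := apply_sp hg (j *ᵥ v) (j *ᵥ w)
    rw [hAB, hAB', hA0, f_jj j d hjj hjf v w, hs.one, zero_smul, zero_smul, zero_add, zero_add,
      form_smul_left, form_smul_right, f_jj j d hjj hjf, hgvw] at h
    exact mul_right_cancel₀ (neg_ne_zero.mpr hd0) (by linear_combination h)
  refine ⟨B, mul_self_eq_one_iff.mp hBB, fun x => ?_⟩
  have ev : (g : Ms) *ᵥ (j *ᵥ v) = B • (j *ᵥ ((g : Ms) *ᵥ v)) := by rw [hAB, hA0, zero_smul, zero_add]
  have ew : (g : Ms) *ᵥ (j *ᵥ w) = B • (j *ᵥ ((g : Ms) *ᵥ w)) := by rw [hAB', hA0, zero_smul, zero_add]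
  have key : ∀ u, (g : Ms) *ᵥ (j *ᵥ u) = B • (j *ᵥ ((g : Ms) *ᵥ u)) →
      (g : Ms) *ᵥ (j *ᵥ (j *ᵥ u)) = B • (j *ᵥ ((g : Ms) *ᵥ (j *ᵥ u))) := fun u hu => by
    rw [hjj, mulVec_smul, hu, mulVec_smul, hjj, smul_smul, smul_smul, hBB, one_mul]
  rw [expand j d hjj hjf hd hs x]
  simp only [mulVec_add, mulVec_smul, ev, ew, key v ev, key w ew]
  module

include h5 hd in
/-- A scalar of norm one outside the axes. -/
theorem exists_norm_one (h2 : (2 : F) ≠ 0) : ∃ a b : F, a ≠ 0 ∧ b ≠ 0 ∧ a * a - d * (b * b) = 1 := by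
  classical
  have : Fintype F := Fintype.ofFinite F
  rw [Nat.card_eq_fintype_card] at h5
  have hd0 := d_ne_zero d hd
  obtain ⟨t, ht0, ht⟩ : ∃ t : F, t ≠ 0 ∧ 1 + d * (t * t) ≠ 0 := by
    by_contra hno
    push Not at hno
    by_cases hall : ∃ s : F, s ≠ 0
    · obtain ⟨s, hs0⟩ := hall
      have hsub : (Finset.univ : Finset F) ⊆ {0, s, -s} := fun t _ => by
        by_cases ht : t = 0
        · simp [ht]
        · have e : d * (t * t) = d * (s * s) := by linear_combination hno t ht - hno s hs0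
          rcases mul_self_eq_mul_self_iff.mp (mul_left_cancel₀ hd0 e) with e' | e' <;> simp [e']
      have := Finset.card_le_card hsub
      rw [Finset.card_univ] at this
      have := Finset.card_le_three (a := (0 : F)) (b := s) (c := -s)
      omega
    · exact hall ⟨1, one_ne_zero⟩
  obtain ⟨D, hDe⟩ : ∃ D, D = 1 - d * (t * t) := ⟨_, rfl⟩
  have hD : D ≠ 0 := by
    have := norm_ne_zero d hd (a := 1) (b := t) (Or.inl one_ne_zero)
    rw [hDe]; rwa [mul_one] at this
  refine ⟨(1 + d * (t * t)) / D, 2 * t / D, div_ne_zero ht hD, div_ne_zero (mul_ne_zero h2 ht0) hD, ?_⟩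
  field_simp
  rw [hDe]
  ring

/-- The scalar `a + b j`. -/
def scal (a b : F) : Matrix (Fin 2 ⊕ Fin 2) (Fin 2 ⊕ Fin 2) F := a • 1 + b • j

variable {H : Subgroup (GL (Fin 2 ⊕ Fin 2) F)}

include hjj hjf hd hs in
/-- The isotropic root elements and one scalar of norm one spread one root vector to all. -/
theorem all_root (h2 : (2 : F) ≠ 0) (hH : H ≤ Cfsg.spGL 2 F)
    (hR : ∀ u, f u (j *ᵥ u) = 0 → ∀ c, R j d u c ∈ H)
    {a b : F} (ha : a ≠ 0) (hb : b ≠ 0) {L : GLs} (hL : L ∈ H) (hLv : (L : Ms) = scal j a b)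
    {r : Vs} (hr0 : r ≠ 0) (hr : r ∈ root H) (x : Vs) : x ∈ root H := by
  have hd0 := d_ne_zero d hd
  -- a root vector moves to every isotropic line it is not orthogonal to
  have step : ∀ z u, z ∈ root H → f u (j *ᵥ u) = 0 → (f z u ≠ 0 ∨ f z (j *ᵥ u) ≠ 0) →
      f z u • u - (f z (j *ᵥ u) / d) • (j *ᵥ u) ∈ root H := by
    intro z u hz hu hne
    have h4 := root_map hH (hR u hu 1) hz
    rw [R_mulVec j d hjj hjf hd hu, one_mul, one_div, inv_mul_eq_div] at h4
    have h5 := root_add hH h4 (root_smul hz (-1)) (by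
      rw [form_smul_right, ExtFieldMax.SympQuad.form_sub_left', form_add_left, form_smul_left, form_smul_left,
        sympForm_self, sympForm_comm u z, sympForm_comm (j *ᵥ u) z]
      have hN : f z (j *ᵥ u) * f z (j *ᵥ u) - d * (f z u * f z u) ≠ 0 :=
        norm_ne_zero d hd hne.symm
      intro e
      apply hN
      field_simp at e
      linear_combination -e)
    convert h5 using 1
    module
  have hjroot : ∀ u, f u (j *ᵥ u) = 0 → u ∈ root H → j *ᵥ u ∈ root H := by
    intro u hu h c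
    have h1 := H.mul_mem (h (d * c)) (hR u hu (-(d * c)))
    rw [R, ← mul_assoc, T_add, add_neg_cancel, T_zero', one_mul, neg_neg, mul_div_cancel_left₀ _ hd0] at h1
    exact h1
  -- an isotropic root vector
  obtain ⟨u, hu0, hu, hur⟩ : ∃ u, u ≠ 0 ∧ f u (j *ᵥ u) = 0 ∧ u ∈ root H := by
    have hne : ∃ u, (u = v ∨ u = w) ∧ (f r u ≠ 0 ∨ f r (j *ᵥ u) ≠ 0) := by
      by_contra hno
      push Not at hno
      obtain ⟨e1, e3⟩ := hno v (Or.inl rfl)
      obtain ⟨e4, e5⟩ := hno w (Or.inr rfl)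
      refine hr0 ?_
      rw [expand j d hjj hjf hd hs r, e4, e5, sympForm_comm v r, e1, f_jx_sym j hjf v r, e3]
      simp
    obtain ⟨u, huvw, hne⟩ := hne
    have hu : f u (j *ᵥ u) = 0 := by rcases huvw with rfl | rfl; exacts [hs.nv, hs.nw]
    have hu0 : u ≠ 0 := by rcases huvw with rfl | rfl; exacts [hs.ne_zero j, (hs.symm' j hjf).ne_zero j]
    refine ⟨_, fun e => ?_, ?_, step r u hr hu hne⟩
    · rw [sub_eq_add_neg, ← neg_smul] at e
      obtain ⟨e1, e3⟩ := indep_j j d hjj hd hu0 e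
      rcases hne with h | h
      · exact h e1
      · exact h (by simpa [hd0] using e3)
    · have hju : f (j *ᵥ u) u = 0 := by rw [sympForm_comm, hu, neg_zero]
      simp only [mulVec_sub, mulVec_smul, hjj, ExtFieldMax.SympQuad.form_sub_left', form_sub_right,
        form_smul_left, form_smul_right, sympForm_self, hu, hju]
      ring
  obtain ⟨w', hst⟩ := exists_std j d hjj hjf hd h2 hu0 hu
  have hwr : w' ∈ root H := by
    have h := step u w' hur hst.nw (Or.inl (by rw [hst.one]; exact one_ne_zero))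
    rwa [hst.one, hst.zero, one_smul, zero_div, zero_smul, sub_zero] at h
  have hjur := hjroot u hu hur
  have hjwr := hjroot w' hst.nw hwr
  have g1 : f u w' = 1 := hst.one
  have g2 : f w' u = -1 := by rw [sympForm_comm, g1]
  have g3 : f (j *ᵥ u) (j *ᵥ w') = -d := by rw [f_jj j d hjj hjf, g1, mul_one]
  have g4 : f (j *ᵥ w') (j *ᵥ u) = d := by rw [sympForm_comm, g3, neg_neg]
  have g5 : f u (j *ᵥ w') = 0 := hst.zero
  have g6 : f (j *ᵥ w') u = 0 := by rw [sympForm_comm, g5, neg_zero]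
  have g7 : f w' (j *ᵥ u) = 0 := by rw [f_jx_sym j hjf, g5]
  have g8 : f (j *ᵥ u) w' = 0 := by rw [sympForm_comm, g7, neg_zero]
  have g9 : f (j *ᵥ u) u = 0 := by rw [sympForm_comm, hu, neg_zero]
  have g10 : f (j *ᵥ w') w' = 0 := by rw [sympForm_comm, hst.nw, neg_zero]
  -- the two real planes
  have hW : ∀ s t : F, s • u + t • w' ∈ root H := by
    intro s t
    rcases eq_or_ne s 0 with rfl | hs'
    · rw [zero_smul, zero_add]; exact root_smul hwr t
    rcases eq_or_ne t 0 with rfl | ht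
    · rw [zero_smul, add_zero]; exact root_smul hur s
    exact root_add hH (root_smul hur s) (root_smul hwr t) (by
      rw [form_smul_left, form_smul_right, g1, mul_one]; exact mul_ne_zero hs' ht)
  have hjW : ∀ s t : F, s • (j *ᵥ u) + t • (j *ᵥ w') ∈ root H := by
    intro s t
    rcases eq_or_ne s 0 with rfl | hs'
    · rw [zero_smul, zero_add]; exact root_smul hjwr t
    rcases eq_or_ne t 0 with rfl | ht
    · rw [zero_smul, add_zero]; exact root_smul hjur s
    exact root_add hH (root_smul hjur s) (root_smul hjwr t) (by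
      rw [form_smul_left, form_smul_right, g3]
      exact mul_ne_zero hs' (mul_ne_zero ht (neg_ne_zero.mpr hd0)))
  -- a mixed root vector, moved in both planes
  have hz : a • u + b • (j *ᵥ u) ∈ root H := by
    have h := root_map hH hL hur
    rwa [hLv, scal, add_mulVec, smul_mulVec, smul_mulVec, one_mulVec] at h
  have moveW : ∀ (s t s' t' : F) (q : Vs), f q u = 0 → f q w' = 0 → s * t' - t * s' ≠ 0 →
      s • u + t • w' + q ∈ root H → s' • u + t' • w' + q ∈ root H := by
    intro s t s' t' q hqu hqw hne h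
    have h1 := root_add hH h (hW (s' - s) (t' - t)) (by
      simp only [form_add_left, form_add_right, form_smul_left, form_smul_right, sympForm_self, g1, g2, hqu, hqw]
      intro e; exact hne (by linear_combination e))
    convert h1 using 1
    module
  have moveJ : ∀ (s t s' t' : F) (q : Vs), f q (j *ᵥ u) = 0 → f q (j *ᵥ w') = 0 → s * t' - t * s' ≠ 0 →
      q + (s • (j *ᵥ u) + t • (j *ᵥ w')) ∈ root H → q + (s' • (j *ᵥ u) + t' • (j *ᵥ w')) ∈ root H := by
    intro s t s' t' q hqu hqw hne h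
    have h1 := root_add hH h (hjW (s' - s) (t' - t)) (by
      simp only [form_add_left, form_add_right, form_smul_left, form_smul_right, sympForm_self, g3, g4, hqu, hqw]
      intro e; exact mul_ne_zero (neg_ne_zero.mpr hd0) hne (by linear_combination e))
    convert h1 using 1
    module
  have moveW2 : ∀ (s t s' t' : F) (q : Vs), f q u = 0 → f q w' = 0 → (s ≠ 0 ∨ t ≠ 0) → (s' ≠ 0 ∨ t' ≠ 0) →
      s • u + t • w' + q ∈ root H → s' • u + t' • w' + q ∈ root H := by
    intro s t s' t' q hqu hqw h0 h0' h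
    obtain ⟨p, p', hp, hp'⟩ := exists_det (s := s) (t := t) (s' := s') (t' := t') h0 h0'
    exact moveW p p' s' t' q hqu hqw hp' (moveW s t p p' q hqu hqw hp h)
  have moveJ2 : ∀ (s t s' t' : F) (q : Vs), f q (j *ᵥ u) = 0 → f q (j *ᵥ w') = 0 → (s ≠ 0 ∨ t ≠ 0) →
      (s' ≠ 0 ∨ t' ≠ 0) → q + (s • (j *ᵥ u) + t • (j *ᵥ w')) ∈ root H →
      q + (s' • (j *ᵥ u) + t' • (j *ᵥ w')) ∈ root H := by
    intro s t s' t' q hqu hqw h0 h0' h
    obtain ⟨p, p', hp, hp'⟩ := exists_det (s := s) (t := t) (s' := s') (t' := t') h0 h0'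
    exact moveJ p p' s' t' q hqu hqw hp' (moveJ s t p p' q hqu hqw hp h)
  rw [expand j d hjj hjf hd hst x]
  obtain ⟨c₁, hc₁⟩ : ∃ c, c = f x w' := ⟨_, rfl⟩
  obtain ⟨c₂, hc₂⟩ : ∃ c, c = -f x (j *ᵥ w') / d := ⟨_, rfl⟩
  obtain ⟨c₃, hc₃⟩ : ∃ c, c = f u x := ⟨_, rfl⟩
  obtain ⟨c₄, hc₄⟩ : ∃ c, c = f u (j *ᵥ x) / d := ⟨_, rfl⟩
  rw [← hc₁, ← hc₂, ← hc₃, ← hc₄]
  rw [show c₁ • u + c₂ • (j *ᵥ u) + c₃ • w' + c₄ • (j *ᵥ w') =
    (c₁ • u + c₃ • w') + (c₂ • (j *ᵥ u) + c₄ • (j *ᵥ w')) by abel]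
  by_cases hW0 : c₁ = 0 ∧ c₃ = 0
  · rw [hW0.1, hW0.2, zero_smul, zero_smul, add_zero, zero_add]; exact hjW _ _
  by_cases hJ0 : c₂ = 0 ∧ c₄ = 0
  · rw [hJ0.1, hJ0.2, zero_smul, zero_smul, add_zero, add_zero]; exact hW _ _
  have h1 : a • u + (0 : F) • w' + (b • (j *ᵥ u) + (0 : F) • (j *ᵥ w')) ∈ root H := by
    rw [zero_smul, zero_smul, add_zero, add_zero]; exact hz
  have h3 := moveW2 a 0 c₁ c₃ _
    (by rw [form_add_left, form_smul_left, form_smul_left, g9, g6]; ring)
    (by rw [form_add_left, form_smul_left, form_smul_left, g8, g10]; ring)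
    (Or.inl ha) (by tauto) h1
  exact moveJ2 b 0 c₂ c₄ _
    (by rw [form_add_left, form_smul_left, form_smul_left, hu, g7]; ring)
    (by rw [form_add_left, form_smul_left, form_smul_left, g5, hst.nw]; ring)
    (Or.inl hb) (by tauto) h3
where
  exists_det {s t s' t' : F} (h : s ≠ 0 ∨ t ≠ 0) (h' : s' ≠ 0 ∨ t' ≠ 0) :
      ∃ p p' : F, s * p' - t * p ≠ 0 ∧ p * t' - p' * s' ≠ 0 := by
    by_contra hno
    push Not at hno
    by_cases h1 : s = 0
    · subst h1
      have ht : t ≠ 0 := h.resolve_left (not_not.mpr rfl)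
      have e1 := hno 1 0 (by simpa using ht)
      have e2 := hno 1 1 (by simpa using ht)
      exact h'.elim (fun hs => hs (by linear_combination e1 - e2)) fun ht' => ht' (by linear_combination e1)
    · by_cases h3 : t = 0
      · subst h3
        have e1 := hno 0 1 (by simpa using h1)
        have e2 := hno 1 1 (by simpa using h1)
        exact h'.elim (fun hs => hs (by linear_combination -e1)) fun ht' => ht' (by linear_combination e2 - e1)
      · have e1 := hno 0 1 (by simpa using h1)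
        have e2 := hno 1 0 (by simpa using h3)
        exact h'.elim (fun hs => hs (by linear_combination -e1)) fun ht' => ht' (by linear_combination e2)

include hjj hjf in
/-- The rotation about an anisotropic line of the extension. -/
theorem exists_rot {y : Vs} (hy : f y (j *ᵥ y) ≠ 0) {a b : F} (hab : a * a - d * (b * b) = 1) :
    ∃ G : GLs, G ∈ Cfsg.spGL 2 F ∧ Semi j G ∧ (G : Ms) *ᵥ y = y ∧
      ∀ z, f y z = 0 → f y (j *ᵥ z) = 0 → (G : Ms) *ᵥ z = a • z + b • (j *ᵥ z) := by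
  obtain ⟨n, hn⟩ : ∃ n, n = f y (j *ᵥ y) := ⟨_, rfl⟩
  have hn0 : n ≠ 0 := hn ▸ hy
  have hjyy : f (j *ᵥ y) y = -n := by rw [sympForm_comm, hn]
  -- every vector splits along the line of `y`
  have dec : ∀ x : Vs, ∃ (s t : F) (z : Vs), f y z = 0 ∧ f y (j *ᵥ z) = 0 ∧ x = s • y + t • (j *ᵥ y) + z := by
    intro x
    refine ⟨f x (j *ᵥ y) / n, f y x / n, x - (f x (j *ᵥ y) / n) • y - (f y x / n) • (j *ᵥ y), ?_, ?_, by abel⟩
    · rw [form_sub_right, form_sub_right, form_smul_right, form_smul_right, sympForm_self, ← hn]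
      field_simp
      ring
    · rw [mulVec_sub, mulVec_sub, mulVec_smul, mulVec_smul, hjj, form_sub_right, form_sub_right, form_smul_right,
        form_smul_right, form_smul_right, sympForm_self, ← hn, f_jx_sym j hjf y x]
      field_simp
      ring
  let P : F → F → Vs → Vs := fun a b x => a • x + b • (j *ᵥ x) +
    (((1 - a) * f x (j *ᵥ y) + b * d * f x y) / n) • y +
    ((-(1 - a) * f x y - b * f x (j *ᵥ y)) / n) • (j *ᵥ y)
  have hP : ∀ (a b s t : F) (z : Vs), f y z = 0 → f y (j *ᵥ z) = 0 →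
      P a b (s • y + t • (j *ᵥ y) + z) = s • y + t • (j *ᵥ y) + (a • z + b • (j *ᵥ z)) := by
    intro a b s t z h1 h3
    have e1 : f (s • y + t • (j *ᵥ y) + z) y = -(t * n) := by
      rw [form_add_left, form_add_left, form_smul_left, form_smul_left, sympForm_self, hjyy,
        sympForm_comm z y, h1]
      ring
    have e3 : f (s • y + t • (j *ᵥ y) + z) (j *ᵥ y) = s * n := by
      rw [form_add_left, form_add_left, form_smul_left, form_smul_left, sympForm_self, ← hn, f_jx_sym j hjf z y, h3]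
      ring
    show a • _ + b • _ + _ + _ = _
    rw [e1, e3, mulVec_add, mulVec_add, mulVec_smul, mulVec_smul, hjj]
    match_scalars <;> field_simp <;> ring
  have hPP : ∀ a b : F, a * a - d * (b * b) = 1 → ∀ x : Vs, P a b (P a (-b) x) = x := by
    intro a b hab x
    obtain ⟨s, t, z, h1, h3, rfl⟩ := dec x
    rw [hP a (-b) s t z h1 h3, hP a b s t _ ?_ ?_]
    · simp only [mulVec_add, mulVec_smul, hjj]
      rw [← sub_eq_zero, ← zero_smul F z, ← sub_self (1 : F)]
      nth_rewrite 1 [← hab]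
      module
    · rw [form_add_right, form_smul_right, form_smul_right, h1, h3]; ring
    · rw [mulVec_add, mulVec_smul, mulVec_smul, hjj, form_add_right, form_smul_right, form_smul_right,
        form_smul_right, h1, h3]
      ring
  let lin : F → F → (Vs →ₗ[F] Vs) := fun a b =>
    { toFun := P a b
      map_add' := fun x x' => by
        show a • _ + b • _ + _ + _ = a • _ + b • _ + _ + _ + (a • _ + b • _ + _ + _)
        rw [mulVec_add, form_add_left, form_add_left]
        match_scalars <;> ring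
      map_smul' := fun c x => by
        show a • _ + b • _ + _ + _ = c • (a • _ + b • _ + _ + _)
        rw [mulVec_smul, form_smul_left, form_smul_left]
        match_scalars <;> ring }
  let G : GLs := ⟨LinearMap.toMatrix' (lin a b), LinearMap.toMatrix' (lin a (-b)),
    by
      rw [← LinearMap.toMatrix'_comp, ← LinearMap.toMatrix'_id]
      congr 1
      exact LinearMap.ext fun x => hPP a b hab x,
    by
      rw [← LinearMap.toMatrix'_comp, ← LinearMap.toMatrix'_id]
      congr 1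
      refine LinearMap.ext fun x => ?_
      have h := hPP a (-b) (by linear_combination hab) x
      rwa [neg_neg] at h⟩
  have hG : ∀ x, (G : Ms) *ᵥ x = P a b x := fun x => LinearMap.toMatrix'_mulVec _ _
  refine ⟨G, fun x x' => ?_, ⟨1, Or.inl rfl, fun x => ?_⟩, ?_, fun z h1 h3 => ?_⟩
  · show f ((G : Ms) *ᵥ x) ((G : Ms) *ᵥ x') = f x x'
    obtain ⟨s, t, z, h1, h3, rfl⟩ := dec x
    obtain ⟨s', t', z', h1', h3', rfl⟩ := dec x'
    rw [hG, hG, hP a b s t z h1 h3, hP a b s' t' z' h1' h3']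
    have q1 : f z y = 0 := by rw [sympForm_comm, h1, neg_zero]
    have q3 : f (j *ᵥ y) z' = 0 := by rw [hjf, h3', neg_zero]
    have q4 : f z (j *ᵥ y) = 0 := by rw [f_jx_sym j hjf z y, h3]
    have q5 : f (j *ᵥ y) (j *ᵥ z') = 0 := by rw [f_jj j d hjj hjf, h1']; ring
    have q6 : f (j *ᵥ z) y = 0 := by rw [sympForm_comm, h3, neg_zero]
    have q7 : f (j *ᵥ z) (j *ᵥ y) = 0 := by rw [f_jj j d hjj hjf, q1]; ring
    simp only [form_add_left, form_add_right, form_smul_left, form_smul_right, sympForm_self, hjyy, ← hn, h1', h3',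
      q1, q3, q4, q5, q6, q7, hjf z z', f_jj j d hjj hjf z z']
    linear_combination (f z z') * hab
  · obtain ⟨s, t, z, h1, h3, rfl⟩ := dec x
    rw [one_smul, hG, hG, hP a b s t z h1 h3, mulVec_add, mulVec_add, mulVec_smul, mulVec_smul, hjj,
      show s • (j *ᵥ y) + t • d • y + j *ᵥ z = (t * d) • y + s • (j *ᵥ y) + j *ᵥ z by module,
      hP a b _ _ _ h3 (by rw [hjj, form_smul_right, h1, mul_zero])]
    simp only [mulVec_add, mulVec_smul, hjj]
    module
  · rw [hG, show y = (1 : F) • y + (0 : F) • (j *ᵥ y) + 0 by simp]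
    rw [hP a b 1 0 0 (by rw [← zero_smul F (0 : Vs), form_smul_right, zero_mul])
      (by rw [mulVec_zero, ← zero_smul F (0 : Vs), form_smul_right, zero_mul])]
    simp
  · rw [hG, show z = (0 : F) • y + (0 : F) • (j *ᵥ y) + z by simp, hP a b 0 0 z h1 h3]
    simp

include hjj hjf hd h2 h5 in
/-- The semilinear unitary group is maximal. -/
theorem isMaximalIn_semilinear {N : Subgroup (GL (Fin 2 ⊕ Fin 2) F)} (hN : ∀ g, g ∈ N ↔ Semi j g) :
    Cfsg.Geo.IsMaximalIn (Cfsg.spGL 2 F) (N ⊓ Cfsg.spGL 2 F) := by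
  have hd0 := d_ne_zero d hd
  obtain ⟨v, w, hs⟩ := exists_pair j d hjj hjf hd h2
  refine ⟨lt_of_le_of_ne inf_le_right fun heq => ?_, fun H hNH hHS => ?_⟩
  · obtain ⟨ε, hε, hT⟩ := (hN _).mp (heq.ge (T_mem v 1)).1
    have hjwv : f (j *ᵥ w) v = 0 := by rw [sympForm_comm, hs.zero, neg_zero]
    have hwv : f w v = -1 := by rw [sympForm_comm, hs.one]
    have h4 := hT w
    rw [T_mulVec, T_mulVec, hjwv, hwv, mul_zero, zero_smul, add_zero, one_mul, neg_one_smul, mulVec_add,
      mulVec_neg, smul_add, smul_neg] at h4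
    have h6 := congrArg (fun z => f z (j *ᵥ w)) h4
    simp only [sympForm_self, form_add_left, ← neg_smul, form_smul_left, f_jj j d hjj hjf v w,
      hs.one] at h6
    have : ε * d = 0 := by linear_combination -h6
    rcases hε with e | e <;> rw [e] at this <;> simp [hd0] at this
  by_cases hle : H ≤ N
  · exact Or.inl (le_antisymm (le_inf hle hHS) hNH)
  right
  obtain ⟨g, hgH, hg⟩ := SetLike.not_le_iff_exists.mp hle
  have hR : ∀ v, f v (j *ᵥ v) = 0 → ∀ c, R j d v c ∈ H := fun v hv c =>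
    hNH ⟨(hN _).mpr (R_semi j d hjj hjf hd hv c), R_mem j d v c⟩
  have : Fintype F := Fintype.ofFinite F
  obtain ⟨a, b, ha, hb, hab⟩ := exists_norm_one d hd h5 h2
  -- the scalar of norm one
  obtain ⟨L, hLval⟩ : ∃ L : GLs, (L : Ms) = scal j a b := by
    have hjj' : j * j = d • (1 : Ms) := Matrix.ext_iff_mulVec.mpr fun x => by
      rw [← mulVec_mulVec, hjj, smul_mulVec, one_mulVec]
    refine ⟨⟨scal j a b, scal j a (-b), ?_, ?_⟩, rfl⟩ <;>
    · simp only [scal, add_mul, mul_add, smul_mul_smul_comm, hjj', one_mul, mul_one, smul_smul]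
      match_scalars <;> first | linear_combination hab | ring
  have hL : L ∈ H := by
    refine hNH ⟨(hN _).mpr ⟨1, Or.inl rfl, fun x => ?_⟩, fun x y => ?_⟩
    · rw [hLval, scal, one_smul]
      simp only [add_mulVec, smul_mulVec, one_mulVec, mulVec_add, mulVec_smul, hjj]
    · show f ((L : Ms) *ᵥ x) ((L : Ms) *ᵥ y) = f x y
      rw [hLval]
      simp only [scal, add_mulVec, smul_mulVec, one_mulVec, form_add_left, form_add_right, form_smul_left,
        form_smul_right, f_jj j d hjj hjf, hjf x y]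
      linear_combination (f x y) * hab
  by_cases hl : ∀ u, u ≠ 0 → f u (j *ᵥ u) = 0 → ∃ a b : F,
      (g : Ms) *ᵥ (j *ᵥ u) = a • ((g : Ms) *ᵥ u) + b • (j *ᵥ ((g : Ms) *ᵥ u))
  · exact absurd ((hN g).mpr (semi_of_lines j d hjj hjf hd h2 hs (hHS hgH) hl)) hg
  push Not at hl
  obtain ⟨u₀, hu₀, hu, hne⟩ := hl
  obtain ⟨y, hy⟩ : ∃ y, y = (g : Ms) *ᵥ u₀ := ⟨_, rfl⟩
  obtain ⟨y', hy'⟩ : ∃ y', y' = (g : Ms) *ᵥ (j *ᵥ u₀) := ⟨_, rfl⟩
  rw [← hy, ← hy'] at hne
  have hB : ∀ c, T y c * T y' (-c / d) ∈ H := fun c => by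
    have h1 := H.mul_mem (H.mul_mem hgH (hR u₀ hu c)) (H.inv_mem hgH)
    rwa [R, show g * (T u₀ c * T (j *ᵥ u₀) (-c / d)) * g⁻¹ =
      (g * T u₀ c * g⁻¹) * (g * T (j *ᵥ u₀) (-c / d) * g⁻¹) by group, conj_T (hHS hgH), conj_T (hHS hgH),
      ← hy, ← hy'] at h1
  have hy0 : y ≠ 0 := fun h0 => by
    have hv : u₀ = 0 := by
      have h1 := congrArg (((g⁻¹ : GLs) : Ms) *ᵥ ·) (hy.symm.trans h0)
      simpa [mulVec_mulVec] using h1
    exact hu₀ hv
  have hyy' : f y y' = 0 := by rw [hy, hy', apply_sp (hHS hgH)]; exact hu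
  have finish : ∀ r, r ≠ 0 → r ∈ root H → H = Cfsg.spGL 2 F := fun r hr0 hr =>
    eq_spGL hHS (all_root j d hjj hjf hd hs h2 hHS hR ha hb hL hLval hr0 hr)
  by_cases hyN : f y (j *ᵥ y) = 0
  · -- the two root groups through `y`
    have hμ : f (j *ᵥ y) y' ≠ 0 := by
      intro h0
      obtain ⟨w', hst⟩ := exists_std j d hjj hjf hd h2 hy0 hyN
      refine hne (f y' w') (-f y' (j *ᵥ w') / d) ?_
      conv_lhs => rw [expand j d hjj hjf hd hst y']
      rw [hjf, neg_eq_zero] at h0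
      rw [hyy', h0, zero_div, zero_smul, zero_smul, add_zero, add_zero]
    obtain ⟨l, hl0, hl1⟩ : ∃ l : F, l ≠ 0 ∧ l * l ≠ 1 := ⟨a, ha, fun e => by
      have h' : d * (b * b) = 0 := by linear_combination e - hab
      exact mul_ne_zero hd0 (mul_ne_zero hb hb) h'⟩
    have hA : ∀ x, T (j *ᵥ y) x * T y (-d * x) ∈ H := fun x => by
      have h := hR y hyN (-d * x)
      rw [R, (T_comm hyN _ _).eq, neg_mul, neg_neg, mul_div_cancel_left₀ _ hd0] at h
      rwa [neg_mul]
    have hB' : ∀ x, T y' x * T y (-d * x) ∈ H := fun x => by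
      have h := hB (-d * x)
      rw [(T_comm hyy' _ _).eq, neg_mul, neg_neg, mul_div_cancel_left₀ _ hd0] at h
      rwa [neg_mul]
    refine finish y' (fun e => hne 0 0 (by rw [e]; simp)) (root_of_paired hHS hyN hyy' hμ hl0 hl1 (-d) hA hB')
  · -- an anisotropic image of an isotropic vector: rotate about its line
    obtain ⟨G, hGS, hGsemi, hGy, hGz⟩ := exists_rot j d hjj hjf hyN hab
    have hG : G ∈ H := hNH ⟨(hN _).mpr hGsemi, hGS⟩
    obtain ⟨z, hz⟩ : ∃ z, z = y' - (f y' (j *ᵥ y) / f y (j *ᵥ y)) • y := ⟨_, rfl⟩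
    have hz1 : f y z = 0 := by rw [hz, form_sub_right, form_smul_right, sympForm_self, hyy']; ring
    have hz3 : f y (j *ᵥ z) = 0 := by
      rw [hz, mulVec_sub, mulVec_smul, form_sub_right, form_smul_right, f_jx_sym j hjf y y',
        div_mul_cancel₀ _ hyN, sub_self]
    have hy'z : y' = z + (f y' (j *ᵥ y) / f y (j *ᵥ y)) • y := by rw [hz]; abel
    have hz0 : z ≠ 0 := fun e => hne (f y' (j *ᵥ y) / f y (j *ᵥ y)) 0 (by
      rw [zero_smul, add_zero]; conv_lhs => rw [hy'z, e, zero_add])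
    have hzy : f z y = 0 := by rw [sympForm_comm, hz1, neg_zero]
    have hzjy : f z (j *ᵥ y) = 0 := by rw [f_jx_sym j hjf z y, hz3]
    have hzz : f z (j *ᵥ z) ≠ 0 := by
      intro h0
      have hind : ∀ c c' : F, z ≠ c • y + c' • (j *ᵥ y) := by
        intro c c' e
        have e1 := congrArg (fun x => f x y) e
        have e3 := congrArg (fun x => f x (j *ᵥ y)) e
        simp only [hzy, hzjy, form_add_left, form_smul_left, sympForm_self] at e1 e3
        rw [sympForm_comm (j *ᵥ y) y] at e1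
        have hc : c = 0 := (mul_eq_zero.mp (show c * f y (j *ᵥ y) = 0 by linear_combination -e3)).resolve_right hyN
        have hc' : c' = 0 := (mul_eq_zero.mp (show c' * f y (j *ᵥ y) = 0 by linear_combination e1)).resolve_right hyN
        exact hz0 (by rw [e, hc, hc', zero_smul, zero_smul, add_zero])
      have hli : LinearIndependent F ![y, j *ᵥ y, z, j *ᵥ z] := by
        rw [Fintype.linearIndependent_iff]
        intro c hc i
        obtain ⟨e1, e3, e4, e5⟩ := quad_indep j d hjj hd hy0 hind (a := c 0) (b := c 1) (a' := c 2) (b' := c 3)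
          (by rw [← hc, Fin.sum_univ_four]; simp [add_assoc])
        fin_cases i <;> assumption
      have htop := hli.span_eq_top_of_card_eq_finrank (by simp)
      obtain ⟨x, hx⟩ := exists_form_ne hz0
      obtain ⟨c, rfl⟩ := (Submodule.mem_span_range_iff_exists_fun F).mp
        (htop ▸ Submodule.mem_top : x ∈ Submodule.span F (Set.range ![y, j *ᵥ y, z, j *ᵥ z]))
      refine hx ?_
      rw [Fin.sum_univ_four]
      simp [form_add_right, form_smul_right, hzy, hzjy, sympForm_self, h0]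
    obtain ⟨y'', hy''⟩ : ∃ y'', y'' = (G : Ms) *ᵥ y' := ⟨_, rfl⟩
    have hGy' : y'' = a • z + b • (j *ᵥ z) + (f y' (j *ᵥ y) / f y (j *ᵥ y)) • y := by
      rw [hy'', hy'z, mulVec_add, mulVec_smul, hGy, hGz z hz1 hz3, ← hy'z]
    have hyy'' : f y y'' = 0 := by
      rw [hy'', ← hyy', ← apply_sp hGS y y', hGy]
    have hμ : f y' y'' ≠ 0 := by
      rw [hGy', hy'z]
      simp only [form_add_left, form_add_right, form_smul_left, form_smul_right, sympForm_self, hzy, hz1, hz3,
        mul_zero, zero_mul, add_zero, zero_add]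
      exact mul_ne_zero hb hzz
    have hA : ∀ x, T y' x * T y (-d * x) ∈ H := fun x => by
      have h := hB (-d * x)
      rw [(T_comm hyy' _ _).eq, neg_mul, neg_neg, mul_div_cancel_left₀ _ hd0] at h
      rwa [neg_mul]
    have hB' : ∀ x, T y'' x * T y (-d * x) ∈ H := fun x => by
      have h1 := H.mul_mem (H.mul_mem hG (hA x)) (H.inv_mem hG)
      rwa [show G * (T y' x * T y (-d * x)) * G⁻¹ = (G * T y' x * G⁻¹) * (G * T y (-d * x) * G⁻¹) by group,
        conj_T hGS, conj_T hGS, hGy, ← hy''] at h1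
    refine finish y'' (fun e => hμ (by rw [e, ← zero_smul F (0 : Vs), form_smul_right, zero_mul]))
      (root_of_paired hHS hyy' hyy'' hμ ha (fun e => ?_) (-d) hA hB')
    have h' : d * (b * b) = 0 := by linear_combination e - hab
    exact mul_ne_zero hd0 (mul_ne_zero hb hb) h'

end Cfsg.Agent.Lib.SympFourOdd.Unitary

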